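import Groth.Agent.H23.CocycleMod
import Groth.Agent.InvUfdLib.Pushforward
import Groth.Agent.InvX.GenLocus
import Groth.Agent.InvX.Tensor

/-!
# Gluing invertible modules whose charts overlap inside a given open
-/

universe u

open CategoryTheory CategoryTheory.Limits AlgebraicGeometry TopologicalSpace

set_option backward.isDefEq.respectTransparency false
set_option backward.isDefEq.respectTransparency.types false

namespace Groth.Agent.VarBase.DimOne

open Groth.Agent.AModX Groth.Agent.InvX Groth.Agent.H23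

variable {X : Scheme.{u}}

/-- A frame on an open of `U` gives a frame of the pushforward on the opens of `U` below it. -/
theorem isFrame_push {U : X.Opens} {N : U.toScheme.Modules} {O : U.toScheme.Opens} {e : Γ(N, O)}
    (he : IsFrame e) {W : X.Opens} (hWU : W ≤ U) (hle : U.ι ⁻¹ᵁ W ≤ O) :
    IsFrame (M := (Scheme.Modules.pushforward U.ι).obj N) (U := W) (res N hle e) := fun W' hW => by
  have hW' : U.ι ⁻¹ᵁ W' ≤ O := (U.ι.preimage_mono hW).trans hle
  have hiso : IsIso (U.ι.app W') := U.ι.isIso_app W' ((hW.trans hWU).trans U.opensRange_ι.ge)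
  have key : (fun r : Γ(X, W') => r • res ((Scheme.Modules.pushforward U.ι).obj N) hW (res N hle e)) =
      (fun r : Γ(U.toScheme, U.ι ⁻¹ᵁ W') => r • res N hW' e) ∘ (U.ι.app W') := by
    funext r
    show (U.ι.app W') r • res N (U.ι.preimage_mono hW) (res N hle e) = _
    rw [res_res]
    rfl
  have hb := (he _ hW').comp (ConcreteCategory.bijective_of_isIso (U.ι.app W'))
  exact (congrArg Function.Bijective key).mpr hb

/-- A morphism carrying frames to frames is bijective below an open. -/
theorem bijective_app_of_frames {L P : X.Modules} (φ : L ⟶ P) {ι : Type u} (V : ι → X.Opens)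
    (U : X.Opens) (hcov : ∀ p ∈ U, ∃ i, p ∈ V i) (E : ∀ i, Γ(L, V i)) (hE : ∀ i, IsFrame (E i))
    (hφ : ∀ i, IsFrame (res P (inf_le_left : V i ⊓ U ≤ V i) (φ.app (V i) (E i))))
    {W : X.Opens} (hW : W ≤ U) : Function.Bijective (φ.app W) := by
  have key : ∀ (i : ι) (W' : X.Opens) (h1 : W' ≤ V i) (_ : W' ≤ U) (r : Γ(X, W')),
      φ.app W' (r • res L h1 (E i)) = r • res P h1 (φ.app (V i) (E i)) := fun i W' h1 _ r => by
    rw [Scheme.Modules.Hom.app_smul, app_res]
  have hinj : ∀ {W : X.Opens}, W ≤ U → Function.Injective (φ.app W) := fun {W} hW a b hab => by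
    refine eq_of_locally a b fun p hp => ?_
    obtain ⟨i, hi⟩ := hcov p (hW hp)
    refine ⟨W ⊓ V i, inf_le_left, ⟨hp, hi⟩, ?_⟩
    obtain ⟨r, hr⟩ := (hE i).exists_coord inf_le_right (res L (inf_le_left : W ⊓ V i ≤ W) a)
    obtain ⟨s, hs⟩ := (hE i).exists_coord inf_le_right (res L (inf_le_left : W ⊓ V i ≤ W) b)
    have h := congrArg (res P (inf_le_left : W ⊓ V i ≤ W)) hab
    rw [← app_res, ← app_res, hr, hs, key i _ _ (inf_le_left.trans hW),
      key i _ _ (inf_le_left.trans hW)] at h
    have hle : W ⊓ V i ≤ V i ⊓ U := le_inf inf_le_right (inf_le_left.trans hW)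
    have := (hφ i).coord_unique hle (r := r) (r' := s) (by rw [res_res]; exact h)
    rw [hr, hs, this]
  refine ⟨hinj hW, fun t => ?_⟩
  have hloc : ∀ i, ∃ a : Γ(L, W ⊓ V i), φ.app _ a = res P (inf_le_left : W ⊓ V i ≤ W) t := fun i => by
    have hle : W ⊓ V i ≤ V i ⊓ U := le_inf inf_le_right (inf_le_left.trans hW)
    obtain ⟨r, hr⟩ := (hφ i).exists_coord hle (res P (inf_le_left : W ⊓ V i ≤ W) t)
    rw [res_res] at hr
    exact ⟨r • res L inf_le_right (E i), (key i _ _ (inf_le_left.trans hW) r).trans hr.symm⟩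
  choose a ha using hloc
  obtain ⟨s, hs, -⟩ := existsUnique_glue (M := L) (V := W) (fun i => W ⊓ V i) (fun _ => inf_le_left)
    (fun p hp => (hcov p (hW hp)).imp fun i hi => ⟨hp, hi⟩) a fun i j => by
      refine hinj ((inf_le_left.trans inf_le_left).trans hW) ?_
      rw [app_res, app_res, ha, ha, res_res, res_res]
  refine ⟨s, eq_of_locally _ _ fun p hp => ?_⟩
  obtain ⟨i, hi⟩ := hcov p (hW hp)
  refine ⟨W ⊓ V i, inf_le_left, ⟨hp, hi⟩, ?_⟩
  rw [← app_res, hs, ha]

/-- **Gluing.** Sections over a cover whose members meet only inside `U`, each a frame over `U`, are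
the images of the frames of an invertible module. -/
theorem exists_glue (P : X.Modules) (U : X.Opens) {ι : Type u} (V : ι → X.Opens)
    (hcov : ∀ x, ∃ i, x ∈ V i) (hsep : ∀ i j, i ≠ j → V i ⊓ V j ≤ U) (e : ∀ i, Γ(P, V i))
    (he : ∀ i, IsFrame (res P (inf_le_left : V i ⊓ U ≤ V i) (e i))) :
    ∃ (L : X.Modules) (φ : L ⟶ P) (E : ∀ i, Γ(L, V i)), PicF.IsInvertible L ∧ (∀ i, IsFrame (E i)) ∧
      (∀ i, φ.app (V i) (E i) = e i) ∧ ∀ W ≤ U, Function.Bijective (φ.app W) := by
  classical
  -- two such sections differ by a unit on the overlap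
  have hg : ∀ i j, ∃ c : (Γ(X, V i ⊓ V j))ˣ, (i = j → c = 1) ∧
      res P (inf_le_left : V i ⊓ V j ≤ V i) (e i) =
        (c : Γ(X, V i ⊓ V j)) • res P (inf_le_right : V i ⊓ V j ≤ V j) (e j) := fun i j => by
    by_cases hij : i = j
    · subst hij
      exact ⟨1, fun _ => rfl, (one_smul _ _).symm⟩
    have hU := hsep i j hij
    obtain ⟨r, hr, hre⟩ := InvUfdLib.exists_unit_of_frames ((he i).res (le_inf inf_le_left hU))
      ((he j).res (le_inf inf_le_right hU))
    rw [res_res, res_res] at hre
    exact ⟨hr.unit, fun h => absurd h hij, hre⟩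
  choose c hc1 hc using hg
  have hcW : ∀ i j (W : X.Opens) (hi : W ≤ V i) (hj : W ≤ V j), res P hi (e i) =
      resR (le_inf hi hj) (c i j : Γ(X, V i ⊓ V j)) • res P hj (e j) := fun i j W hi hj => by
    have := congrArg (res P (le_inf hi hj)) (hc i j)
    rwa [res_smul, res_res, res_res] at this
  have hone : ∀ i j (W : X.Opens) (hi : W ≤ V i) (hj : W ≤ V j), i = j →
      resR (le_inf hi hj) (c i j : Γ(X, V i ⊓ V j)) = 1 := fun i j W hi hj h => by
    rw [hc1 i j h, Units.val_one, map_one]
  let t : CocycleMod.Cocycle V :=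
    { g := c
      trans := fun i j k W hi hj hk => by
        by_cases hij : i = j
        · subst hij
          rw [hone i i W hi hj rfl, mul_one]
        by_cases hjk : j = k
        · subst hjk
          rw [hone j j W hj hk rfl, one_mul]
        have hWU : W ≤ U := (le_inf hi hj).trans (hsep i j hij)
        refine ((he k).res (le_inf hk hWU)).coord_unique (le_refl W) ?_
        simp only [res_res, res_self]
        rw [← hcW i k W hi hk, hcW i j W hi hj, hcW j k W hj hk, ← mul_smul, mul_comm] }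
  have hE := CocycleMod.isFrame_frame t
  have hcomp : ∀ (a b : ι) (W : X.Opens) (ha : W ≤ V a) (hb : W ≤ V b) (g : Γ(X, W)),
      res (CocycleMod.mod t) hb (CocycleMod.frame t b) = g • res _ ha (CocycleMod.frame t a) →
      res P hb (e b) = g • res P ha (e a) := fun a b W ha hb g hgeq => by
    have h := congrArg (res (CocycleMod.mod t) (le_inf hb ha)) (CocycleMod.res_frame t b a)
    rw [res_smul, res_res, res_res] at h
    have hga : g = resR (le_inf hb ha) (c b a : Γ(X, V b ⊓ V a)) :=
      (hE a).coord_unique ha (hgeq.symm.trans h)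
    rw [hga]
    exact hcW b a W hb ha
  let φ : CocycleMod.mod t ⟶ P := ofFrames hcov hE hcomp
  have hφ : ∀ i, φ.app (V i) (CocycleMod.frame t i) = e i := fun i => ofFrames_app hcov hE hcomp i
  refine ⟨CocycleMod.mod t, φ, CocycleMod.frame t,
    CocycleMod.isInvertible t (top_unique fun x _ => Opens.mem_iSup.2 (hcov x)), hE, hφ, fun W hW => ?_⟩
  refine bijective_app_of_frames φ V U (fun p _ => hcov p) _ hE (fun i => ?_) hW
  rw [hφ i]
  exact he i

/-- A morphism bijective below `U` into a pushforward from `U` is an extension. -/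
theorem nonempty_restrict_iso {U : X.Opens} {N : U.toScheme.Modules} {L : X.Modules}
    (φ : L ⟶ (Scheme.Modules.pushforward U.ι).obj N)
    (hφ : ∀ W ≤ U, Function.Bijective (φ.app W)) : Nonempty (L.restrict U.ι ≅ N) := by
  let ψ := (Scheme.Modules.restrictFunctor U.ι).map φ ≫
    (Scheme.Modules.restrictAdjunction U.ι).counit.app N
  suffices IsIso ψ from ⟨asIso ψ⟩
  suffices IsIso ((Scheme.Modules.restrictFunctor U.ι).map φ) from
    IsIso.comp_isIso' this inferInstance
  rw [Scheme.Modules.Hom.isIso_iff_isIso_app]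
  intro W
  rw [ConcreteCategory.isIso_iff_bijective]
  exact hφ (U.ι ''ᵁ W) ((U.ι.image_le_opensRange W).trans U.opensRange_ι.le)

/-- A compatible family of multiples of frames is a global section. -/
theorem exists_section {L : X.Modules} {ι : Type u} (V : ι → X.Opens) (hcov : ∀ x, ∃ i, x ∈ V i)
    (z : ∀ i, Γ(L, V i))
    (hz : ∀ i j, res L (inf_le_left : V i ⊓ V j ≤ V i) (z i) = res L inf_le_right (z j)) :
    ∃ s : Coh.structureModule X ⟶ L, ∀ i, res L (le_top : V i ≤ ⊤) (one s) = z i := by
  obtain ⟨m, hm, -⟩ := existsUnique_glue (M := L) (V := ⊤) V (fun _ => le_top)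
    (fun p _ => hcov p) z hz
  exact ⟨ofSect m, fun i => by rw [one_ofSect]; exact hm i⟩

end Groth.Agent.VarBase.DimOne
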