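import Groth.Agent.VarBase.DimOne.Shrink
import Groth.Agent.VarBase.DimOne.Glue

/-!
# Equations and extensions of invertible modules across discrete points of dimension one
-/

universe u

open CategoryTheory CategoryTheory.Limits AlgebraicGeometry TopologicalSpace

set_option backward.isDefEq.respectTransparency false
set_option backward.isDefEq.respectTransparency.types false

namespace Groth.Agent.VarBase.DimOne

open Groth.Agent.AModX Groth.Agent.InvX

variable {X : Scheme.{u}}

/-- An equation of `U` is invertible on `U`. -/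
theorem isUnit_app_of_basicOpen_eq {U V : X.Opens} {f : Γ(X, V)} (hf : X.basicOpen f = U ⊓ V) :
    IsUnit (U.ι.app V f) := by
  have h : U.ι ⁻¹ᵁ V ≤ U.toScheme.basicOpen (U.ι.app V f) := by
    rw [← Scheme.preimage_basicOpen, hf]
    exact fun y hy => ⟨y.2, hy⟩
  have := isUnit_resR (le_refl (U.ι ⁻¹ᵁ V)) (U.ι.app V f) h
  rwa [resR_self] at this

/-- An open cut out by local equations is the generating locus of a section. -/
theorem exists_genLocus_eq (U : X.Opens) {ι : Type u} (V : ι → X.Opens)
    (hcov : ∀ x, x ∉ U → ∃ i, x ∈ V i) (hsep : ∀ i j, i ≠ j → V i ⊓ V j ≤ U)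
    (f : ∀ i, Γ(X, V i)) (hf : ∀ i, X.basicOpen (f i) = U ⊓ V i) :
    ∃ (L : X.Modules) (s : Coh.structureModule X ⟶ L), PicF.IsInvertible L ∧ CohB1.genLocus L s = U ∧
      ∀ (a : Γ(X, U)), (∀ i, resR (inf_le_left : U ⊓ V i ≤ U) a * resR inf_le_right (f i) = 1) →
        ∃ t : Coh.structureModule X ⟶ L, ∀ i, V i ≤ CohB1.genLocus L t := by
  classical
  let O := U.toScheme
  let P := (Scheme.Modules.pushforward U.ι).obj (Coh.structureModule O)
  let W : Option ι → X.Opens := fun i => i.elim U V
  let g : ∀ i, Γ(X, W i) := fun i => match i with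
    | none => 1
    | some i => f i
  have hgu : ∀ i, IsUnit (U.ι.app (W i) (g i)) := fun i => match i with
    | none => by
      show IsUnit ((U.ι.app U).hom 1)
      rw [map_one]
      exact isUnit_one
    | some i => isUnit_app_of_basicOpen_eq (hf i)
  let e : ∀ i, Γ(P, W i) := fun i => (show Γ(O, U.ι ⁻¹ᵁ W i) from ↑(hgu i).unit⁻¹)
  have he : ∀ i, IsFrame (res P (inf_le_left : W i ⊓ U ≤ W i) (e i)) := fun i => by
    have h1 := (InvX.isFrame_one (X := O) (U.ι ⁻¹ᵁ W i)).isUnit_smul (Units.isUnit (hgu i).unit⁻¹)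
    have h2 := isFrame_push h1 (inf_le_right : W i ⊓ U ≤ U) (U.ι.preimage_mono inf_le_left)
    refine Eq.mp (congrArg IsFrame ?_) h2
    exact congrArg (res (Coh.structureModule O) (U.ι.preimage_mono inf_le_left))
      (mul_one (↑(hgu i).unit⁻¹ : Γ(O, U.ι ⁻¹ᵁ W i)))
  have hW : ∀ i j, i ≠ j → W i ⊓ W j ≤ U := fun i j h => match i, j, h with
    | none, _, _ => inf_le_left
    | some _, none, _ => inf_le_right
    | some i, some j, h => hsep i j fun e => h (congrArg some e)
  have hWcov : ∀ x, ∃ i, x ∈ W i := fun x => if hx : x ∈ U then ⟨none, hx⟩ else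
    (hcov x hx).elim fun i hi => ⟨some i, hi⟩
  obtain ⟨L, φ, E, hL, hE, hφE, hφ⟩ := exists_glue P U W hWcov hW e he
  -- images of multiples of the frames
  have happ : ∀ (i : Option ι) (T : X.Opens) (hT : T ≤ W i) (a : Γ(X, W i)),
      φ.app T (res L hT (a • E i)) =
        (show Γ(O, U.ι ⁻¹ᵁ T) from resR (U.ι.preimage_mono hT) (U.ι.app (W i) a * ↑(hgu i).unit⁻¹)) := by
    intro i T hT a
    rw [app_res, Scheme.Modules.Hom.app_smul, hφE]
    rfl
  have hglue : ∀ (z : ∀ i, Γ(X, W i)) (m : Γ(O, U.ι ⁻¹ᵁ U)),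
      (∀ i (T : X.Opens) (hT : T ≤ W i) (hTU : T ≤ U),
        resR (U.ι.preimage_mono hT) (U.ι.app (W i) (z i) * ↑(hgu i).unit⁻¹) = resR (U.ι.preimage_mono hTU) m) →
      ∀ i j, res L (inf_le_left : W i ⊓ W j ≤ W i) (z i • E i) = res L inf_le_right (z j • E j) := by
    intro z m hz i j
    by_cases hij : i = j
    · subst hij
      rfl
    have hTU := hW i j hij
    refine (hφ _ hTU).1 ?_
    rw [happ, happ]
    exact (hz i _ inf_le_left hTU).trans (hz j _ inf_le_right hTU).symm
  obtain ⟨s, hs⟩ := exists_section W hWcov (fun i => g i • E i) (hglue g 1 fun i T hT hTU => by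
    rw [IsUnit.mul_val_inv, map_one, map_one])
  have hnone : CohB1.genLocus L s ⊓ U = X.basicOpen (1 : Γ(X, U)) :=
    genLocus_inf s (hE none) (hs none)
  have hU : U ≤ CohB1.genLocus L s := by
    rw [X.basicOpen_of_isUnit isUnit_one] at hnone
    exact inf_eq_right.1 hnone
  refine ⟨L, s, hL, le_antisymm (fun x hx => by_contra fun hxU => ?_) hU, fun a ha => ?_⟩
  · obtain ⟨i, hi⟩ := hcov x hxU
    have := (genLocus_inf s (hE (some i)) (hs (some i))).le ⟨hx, hi⟩
    rw [show g (some i) = f i from rfl, hf i] at this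
    exact hxU this.1
  · let z : ∀ i, Γ(X, W i) := fun i => match i with
      | none => a
      | some _ => 1
    obtain ⟨t, ht⟩ := exists_section W hWcov (fun i => z i • E i) (hglue z (U.ι.app U a)
      fun i T hT hTU => by
        refine ((hgu i).map (resR (U.ι.preimage_mono hT))).mul_left_cancel ?_
        rw [← map_mul (resR (U.ι.preimage_mono hT)), ← mul_assoc, mul_comm (U.ι.app (W i) (g i)),
          mul_assoc, IsUnit.mul_val_inv, mul_one]
        match i with
        | none =>
          show resR _ (U.ι.app U a) = resR _ ((U.ι.app U).hom 1) * _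
          rw [map_one, map_one, one_mul]
        | some i =>
          show resR _ ((U.ι.app (V i)).hom 1) = resR _ (U.ι.app (V i) (f i)) * resR _ (U.ι.app U a)
          have h := congrArg (fun r => resR (U.ι.preimage_mono (le_inf hTU hT : T ≤ U ⊓ V i))
            (U.ι.app (U ⊓ V i) r)) (ha i)
          have nat : ∀ (A B : X.Opens) (hBA : B ≤ A) (r : Γ(X, A)),
              U.ι.app B (resR hBA r) = resR (U.ι.preimage_mono hBA) (U.ι.app A r) :=
            fun A B hBA r => congr($(U.ι.naturality (homOfLE hBA).op) r)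
          rw [map_mul, map_mul, nat, nat, resR_resR, resR_resR, map_one, map_one] at h
          rw [map_one, map_one, mul_comm]
          exact h.symm)
    refine ⟨t, fun i => ?_⟩
    have := genLocus_inf t (hE (some i)) (ht (some i))
    rw [show z (some i) = 1 from rfl, X.basicOpen_of_isUnit isUnit_one] at this
    exact inf_eq_right.1 this

/-- An invertible module on `U` with frames near the points outside `U` extends. -/
theorem exists_extension {U : X.Opens} {N : U.toScheme.Modules} (hN : PicF.IsInvertible N) {ι : Type u}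
    (V : ι → X.Opens) (hcov : ∀ x, x ∉ U → ∃ i, x ∈ V i) (hsep : ∀ i j, i ≠ j → V i ⊓ V j ≤ U)
    (O : ι → U.toScheme.Opens) (hle : ∀ i, U.ι ⁻¹ᵁ V i ≤ O i) (e : ∀ i, Γ(N, O i))
    (he : ∀ i, IsFrame (e i)) :
    ∃ L : X.Modules, PicF.IsInvertible L ∧ Nonempty (L.restrict U.ι ≅ N) := by
  classical
  let P := (Scheme.Modules.pushforward U.ι).obj N
  have hfr := fun y : U.toScheme => InvX.exists_frame hN y
  choose O₀ hyO e₀ he₀ using hfr
  let W : U.toScheme ⊕ ι → X.Opens := fun i => i.elim (fun y => U.ι ''ᵁ O₀ y) V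
  have hleU : ∀ y, U.ι ''ᵁ O₀ y ≤ U := fun y => (U.ι.image_le_opensRange _).trans U.opensRange_ι.le
  let sec : ∀ i, Γ(P, W i) := fun i => match i with
    | .inl y => res N (U.ι.preimage_image_eq (O₀ y)).le (e₀ y)
    | .inr i => res N (hle i) (e i)
  have hsec : ∀ i, IsFrame (res P (inf_le_left : W i ⊓ U ≤ W i) (sec i)) := fun i => match i with
    | .inl y => by
      have := isFrame_push (he₀ y) (inf_le_right : W (.inl y) ⊓ U ≤ U)
        ((U.ι.preimage_mono inf_le_left).trans (U.ι.preimage_image_eq (O₀ y)).le)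
      refine Eq.mp (congrArg IsFrame ?_) this
      exact (res_res _ _ _).symm
    | .inr i => by
      have := isFrame_push (he i) (inf_le_right : W (.inr i) ⊓ U ≤ U)
        ((U.ι.preimage_mono inf_le_left).trans (hle i))
      refine Eq.mp (congrArg IsFrame ?_) this
      exact (res_res _ _ _).symm
  have hW : ∀ i j, i ≠ j → W i ⊓ W j ≤ U := fun i j h => match i, j, h with
    | .inl y, _, _ => inf_le_left.trans (hleU y)
    | .inr _, .inl y, _ => inf_le_right.trans (hleU y)
    | .inr i, .inr j, h => hsep i j fun e => h (congrArg Sum.inr e)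
  obtain ⟨L, φ, E, hL, -, -, hφ⟩ := exists_glue P U W (fun x => if hx : x ∈ U then
      ⟨.inl ⟨x, hx⟩, ⟨⟨x, hx⟩, hyO _, rfl⟩⟩ else (hcov x hx).elim fun i hi => ⟨.inr i, hi⟩) hW sec hsec
  exact ⟨L, hL, nonempty_restrict_iso φ hφ⟩

end Groth.Agent.VarBase.DimOne
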