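import Groth.Agent.VarBase.DimOne.Poles
import Groth.Agent.VarBase.DimOne.Extend

/-!
# A globally generated invertible module with a prescribed affine generating locus
-/

universe u

open CategoryTheory AlgebraicGeometry TopologicalSpace

set_option backward.isDefEq.respectTransparency false
set_option backward.isDefEq.respectTransparency.types false

namespace Groth.Agent.VarBase.DimOne

open Groth.Agent.AModX Groth.Agent.InvX

variable {X : Scheme.{u}}

/-- Near a missing point a power of a function with poles at all its branches is the inverse of an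
equation. -/
theorem exists_unit_equation {U : X.Opens} [QuasiCompact U.ι] (a : Γ(X, U)) {x : X} (hxU : x ∉ U)
    (hN : IsNoetherianRing (X.presheaf.stalk x)) (hd : ringKrullDim (X.presheaf.stalk x) ≤ 1)
    {W₀ : X.Opens} (hxW : x ∈ W₀) (hW₀ : ∀ y ∈ W₀, y ∉ U → y = x)
    (ha : ∀ η (h : η ⤳ x) (hη : η ∈ U), ∃ b ∈ IsLocalRing.maximalIdeal (X.presheaf.stalk x),
        toResidue h b * (X.residue η).hom (X.presheaf.germ U η hη a) = 1) :
    ∃ (N : ℕ) (V : X.Opens) (g : Γ(X, V)), 0 < N ∧ x ∈ V ∧ V ≤ W₀ ∧ X.basicOpen g = U ⊓ V ∧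
      resR (inf_le_left : U ⊓ V ≤ U) a ^ N * resR inf_le_right g = 1 := by
  classical
  obtain ⟨V₀, hV₀, hxV₀, hV₀W, f₀, hf₀⟩ := exists_local_eq hxU hN hd W₀ hxW hW₀
  -- shrink so that `a` is invertible off `x`
  obtain ⟨h₀, hxh₀, hh₀⟩ := exists_basicOpen_inf_le hV₀ hxV₀ f₀ (X.basicOpen a) fun η hη hηf => by
    rw [hf₀] at hηf
    obtain ⟨b, -, hb⟩ := ha η hη hηf.1
    rw [Scheme.mem_basicOpen X a η hηf.1]
    by_contra hu
    rw [(residue_eq_zero_iff _).2 ((IsLocalRing.mem_maximalIdeal _).2 hu), mul_zero] at hb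
    exact zero_ne_one hb
  let V := X.basicOpen h₀
  have hV : IsAffineOpen V := hV₀.basicOpen h₀
  have hxV : x ∈ V := hxh₀
  have hVW : V ≤ W₀ := (X.basicOpen_le h₀).trans hV₀W
  let f : Γ(X, V) := resR (X.basicOpen_le h₀) f₀
  have hf : X.basicOpen f = U ⊓ V := by
    rw [show f = X.presheaf.map (homOfLE (X.basicOpen_le h₀)).op f₀ from rfl, Scheme.basicOpen_res, hf₀]
    ext y
    exact ⟨fun h => ⟨h.2.1, h.1⟩, fun h => ⟨h.2, h.1, X.basicOpen_le h₀ h.2⟩⟩
  have hDU : X.basicOpen f ≤ U := hf.le.trans inf_le_left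
  have hau : IsUnit (resR hDU a) := isUnit_resR hDU a fun y hy => by
    rw [hf] at hy
    exact hh₀ ⟨hy.2, by rw [hf₀]; exact ⟨hy.1, X.basicOpen_le h₀ hy.2⟩⟩
  -- the punctured local ring
  let B : Type u := X.presheaf.stalk x
  let germ := (X.presheaf.germ V x hxV).hom
  let fx : B := germ f
  have hfx : fx ∈ IsLocalRing.maximalIdeal B := fun hu => by
    have := (Scheme.mem_basicOpen X f x hxV).2 hu
    rw [hf] at this
    exact hxU this.1
  have hne : ∀ q : PrimeSpectrum B, fx ∉ q.asIdeal → X.fromSpecStalk x q ∈ X.basicOpen f := by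
    intro q hq
    have hη : X.fromSpecStalk x q ⤳ x := (Scheme.range_fromSpecStalk (x := x)).le (Set.mem_range_self q)
    rw [eq_genPrime (h := hη) rfl, genPrime_asIdeal, Ideal.mem_comap] at hq
    rw [Scheme.mem_basicOpen X f _ (hη.mem_open V.2 hxV)]
    have hu := IsLocalRing.notMem_maximalIdeal.1 hq
    erw [TopCat.Presheaf.germ_stalkSpecializes_apply] at hu
    exact hu
  have hmax : ∀ q : PrimeSpectrum B, fx ∈ q.asIdeal → q.asIdeal = IsLocalRing.maximalIdeal B := by
    intro q hq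
    have hη : X.fromSpecStalk x q ⤳ x := (Scheme.range_fromSpecStalk (x := x)).le (Set.mem_range_self q)
    by_contra hqm
    have hηx : X.fromSpecStalk x q ≠ x := fun h => hqm <| by
      rw [fromSpecStalk_injective x (h.trans Scheme.fromSpecStalk_closedPoint.symm)]
      rfl
    have hηf : X.fromSpecStalk x q ∈ X.basicOpen f := by
      rw [hf]
      exact ⟨by_contra fun hn => hηx (hW₀ _ (hη.mem_open W₀.2 hxW) hn), hη.mem_open V.2 hxV⟩
    rw [eq_genPrime (h := hη) rfl, genPrime_asIdeal, Ideal.mem_comap] at hq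
    refine (IsLocalRing.mem_maximalIdeal _).1 hq ?_
    erw [TopCat.Presheaf.germ_stalkSpecializes_apply]
    exact (Scheme.mem_basicOpen X f _ (hη.mem_open V.2 hxV)).1 hηf
  have hrad : ∀ c ∈ IsLocalRing.maximalIdeal B, ∃ j : ℕ, fx ∣ c ^ j := fun c hc => by
    have : c ∈ (Ideal.span {fx}).radical := by
      rw [Ideal.radical_eq_sInf]
      refine Submodule.mem_sInf.2 fun P hP => ?_
      exact (hmax ⟨P, hP.2⟩ (hP.1 (Ideal.mem_span_singleton_self fx))).ge hc
    obtain ⟨j, hj⟩ := Ideal.mem_radical_iff.1 this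
    exact ⟨j, Ideal.mem_span_singleton.1 hj⟩
  let R : Type u := Localization.Away fx
  let _ : Algebra Γ(X, V) Γ(X, X.basicOpen f) := (resR (X.basicOpen_le f)).toAlgebra
  have : IsLocalization.Away f Γ(X, X.basicOpen f) := hV.isLocalization_basicOpen f
  let ψ : Γ(X, X.basicOpen f) →+* R := IsLocalization.Away.lift f
    (g := (algebraMap B R).comp germ) (IsLocalization.Away.algebraMap_isUnit fx)
  let y : R := ψ ↑hau.unit⁻¹
  -- evaluation at the generizations in `U`
  have hev : ∀ η (h : η ⤳ x) (hηf : η ∈ X.basicOpen f), ∃ φ : R →+* X.presheaf.stalk η,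
      (∀ c, φ (algebraMap B R c) = (X.presheaf.stalkSpecializes h).hom c) ∧
      ∀ r, φ (ψ r) = (X.presheaf.germ (X.basicOpen f) η hηf).hom r := by
    intro η h hηf
    have hu : IsUnit ((X.presheaf.stalkSpecializes h).hom fx) := by
      erw [TopCat.Presheaf.germ_stalkSpecializes_apply]
      exact (Scheme.mem_basicOpen X f η (h.mem_open V.2 hxV)).1 hηf
    refine ⟨IsLocalization.Away.lift fx hu, fun c => IsLocalization.Away.lift_eq fx hu c, fun r => ?_⟩
    suffices (IsLocalization.Away.lift fx hu).comp ψ = (X.presheaf.germ (X.basicOpen f) η hηf).hom from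
      RingHom.congr_fun this r
    refine IsLocalization.ringHom_ext (Submonoid.powers f) (RingHom.ext fun c => ?_)
    show IsLocalization.Away.lift fx hu (ψ (algebraMap Γ(X, V) Γ(X, X.basicOpen f) c)) =
      (X.presheaf.germ (X.basicOpen f) η hηf).hom (resR (X.basicOpen_le f) c)
    rw [IsLocalization.Away.lift_eq, RingHom.comp_apply, IsLocalization.Away.lift_eq,
      InvUfdLib.germ_resR]
    exact TopCat.Presheaf.germ_stalkSpecializes_apply _ _ _ _
  obtain ⟨N, hN0, g₀, hg₀, hg₀y⟩ := exists_pow_eq_algebraMap (IsLocalRing.maximalIdeal B) hfx hrad y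
    fun Q hQ => by
      let q : PrimeSpectrum B := ⟨Q.comap (algebraMap B R), Ideal.IsPrime.comap _⟩
      have hfq : fx ∉ q.asIdeal := fun hm =>
        hQ.ne_top (Ideal.eq_top_of_isUnit_mem _ hm (IsLocalization.Away.algebraMap_isUnit fx))
      have hη : X.fromSpecStalk x q ⤳ x := (Scheme.range_fromSpecStalk (x := x)).le (Set.mem_range_self q)
      have hηf := hne q hfq
      obtain ⟨φ, hφ1, hφ2⟩ := hev _ hη hηf
      obtain ⟨b, hb, hb'⟩ := ha _ hη (hDU hηf)
      refine ⟨b, hb, ?_⟩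
      obtain ⟨⟨c, _, n, rfl⟩, hc⟩ := IsLocalization.surj (Submonoid.powers fx) (y - algebraMap B R b)
      have hmem : φ (y - algebraMap B R b) ∈ IsLocalRing.maximalIdeal _ := by
        rw [← residue_eq_zero_iff, map_sub, map_sub, hφ1, hφ2, sub_eq_zero]
        have h1 := congrArg (fun t => (X.residue _).hom ((X.presheaf.germ (X.basicOpen f) _ hηf).hom t))
          hau.mul_val_inv
        simp only [map_mul, map_one, InvUfdLib.germ_resR] at h1
        exact (inv_eq_of_mul_eq_one_right h1).symm.trans (inv_eq_of_mul_eq_one_left hb')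
      have hcq : c ∈ q.asIdeal := by
        rw [eq_genPrime (h := hη) rfl, genPrime_asIdeal, Ideal.mem_comap, ← hφ1]
        rw [← show _ = algebraMap B R c from hc, map_mul]
        exact Ideal.mul_mem_right _ _ hmem
      have hcQ : (y - algebraMap B R b) * algebraMap B R (fx ^ n) ∈ Q := by
        rw [show _ = algebraMap B R c from hc]
        exact hcq
      exact (hQ.mem_or_mem hcQ).resolve_right fun hm =>
        hQ.ne_top (Ideal.eq_top_of_isUnit_mem _ hm (by
          rw [map_pow]; exact (IsLocalization.Away.algebraMap_isUnit fx).pow n))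
  -- spread out
  obtain ⟨V₁, hxV₁, g₁', hg₁'⟩ := X.presheaf.germ_exist g₀
  obtain ⟨g₁, rfl⟩ : ∃ g₁ : Γ(X, V₁), (X.presheaf.germ V₁ x hxV₁).hom g₁ = g₀ := ⟨g₁', hg₁'⟩
  let T : X.Opens := X.basicOpen f ⊓ V₁
  have hT : T ≤ U := inf_le_left.trans hDU
  let lhs : Γ(X, T) := resR hT a ^ N * resR inf_le_right g₁
  let W : X.Opens := sSup {W' | ∃ h : W' ≤ T, resR h lhs = 1}
  obtain ⟨h₁, hxh₁, hh₁⟩ := exists_basicOpen_inf_le hV hxV f W fun η hη hηf => by
    obtain ⟨φ, hφ1, hφ2⟩ := hev η hη hηf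
    have hηT : η ∈ T := ⟨hηf, hη.mem_open V₁.2 hxV₁⟩
    have h2 := congrArg φ hg₀y
    rw [hφ1, map_pow, hφ2] at h2
    erw [TopCat.Presheaf.germ_stalkSpecializes_apply] at h2
    have h3 : (X.presheaf.germ T η hηT).hom lhs = (X.presheaf.germ T η hηT).hom 1 := by
      simp only [lhs, map_one, map_mul, map_pow, InvUfdLib.germ_resR]
      have h1 := congrArg (X.presheaf.germ (X.basicOpen f) η hηf).hom hau.mul_val_inv
      simp only [map_mul, map_one, InvUfdLib.germ_resR] at h1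
      erw [InvUfdLib.germ_resR, h2]
      rw [← mul_pow]
      erw [h1]
      exact one_pow N
    obtain ⟨W', hηW', i, j, hW'⟩ := X.presheaf.germ_eq η hηT hηT _ _ h3
    refine Opens.mem_sSup.2 ⟨W', ⟨leOfHom i, ?_⟩, hηW'⟩
    exact hW'.trans (map_one (X.presheaf.map j.op).hom)
  let V₂ : X.Opens := X.basicOpen h₁ ⊓ V₁
  have hV₂V : V₂ ≤ V := inf_le_left.trans (X.basicOpen_le h₁)
  have hle : U ⊓ V₂ ≤ T := le_inf (by rw [hf]; exact inf_le_inf_left _ hV₂V) (inf_le_right.trans inf_le_right)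
  have hWle : U ⊓ V₂ ≤ W := fun z hz => hh₁ ⟨hz.2.1, by rw [hf]; exact ⟨hz.1, hV₂V hz.2⟩⟩
  have heq : resR (inf_le_left : U ⊓ V₂ ≤ U) a ^ N *
      resR inf_le_right (resR (inf_le_right : V₂ ≤ V₁) g₁) = 1 := by
    refine eq_of_locally (M := Coh.structureModule X) _ _ fun z hz => ?_
    obtain ⟨W', ⟨hW'T, hW'⟩, hzW'⟩ := Opens.mem_sSup.1 (hWle hz)
    refine ⟨(U ⊓ V₂) ⊓ W', inf_le_left, ⟨hz, hzW'⟩, ?_⟩
    show resR inf_le_left _ = resR inf_le_left 1
    have h := congrArg (resR (inf_le_right : (U ⊓ V₂) ⊓ W' ≤ W')) hW'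
    simp only [lhs, map_one, map_mul, map_pow, resR_resR] at h ⊢
    erw [resR_resR] at h ⊢
    exact h
  refine ⟨N, V₂, resR inf_le_right g₁, hN0, ⟨hxh₁, hxV₁⟩, hV₂V.trans hVW, ?_, heq⟩
  ext z
  show z ∈ X.basicOpen _ ↔ z ∈ U ⊓ V₂
  constructor
  · intro hz
    have hzV := X.basicOpen_le _ hz
    refine ⟨by_contra fun hzU => ?_, hzV⟩
    obtain rfl := hW₀ z (hVW (hV₂V hzV)) hzU
    have hu := (Scheme.mem_basicOpen X _ z hzV).1 hz
    rw [InvUfdLib.germ_resR] at hu
    exact (IsLocalRing.mem_maximalIdeal _).1 hg₀ hu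
  · intro hz
    have hu : IsUnit (resR (inf_le_right : U ⊓ V₂ ≤ V₂) (resR (inf_le_right : V₂ ≤ V₁) g₁)) :=
      IsUnit.of_mul_eq_one_right _ heq
    rw [Scheme.mem_basicOpen X _ z hz.2]
    have := hu.map (X.presheaf.germ (U ⊓ V₂) z hz).hom
    rwa [InvUfdLib.germ_resR] at this

/-- **A globally generated invertible module with affine generating locus.** There is an invertible
module with a section generating exactly on `U` and another one generating at every other point. -/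
theorem exists_two_sections [X.IsSeparated] {U : X.Opens} (hU : IsAffineOpen U)
    (hfin : ((U : Set X)ᶜ).Finite) (hdisc : DiscreteTopology ↥((U : Set X)ᶜ))
    (hloc : ∀ x : X, x ∉ U → IsNoetherianRing (X.presheaf.stalk x) ∧ ringKrullDim (X.presheaf.stalk x) ≤ 1) :
    ∃ (L : X.Modules) (s t : Coh.structureModule X ⟶ L), PicF.IsInvertible L ∧ CohB1.genLocus L s = U ∧
      ∀ x, x ∉ U → x ∈ CohB1.genLocus L t := by
  classical
  have : QuasiCompact U.ι := by
    have : CompactSpace U.toScheme := isCompact_iff_compactSpace.1 hU.isCompact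
    have : QuasiCompact (U.ι ≫ Limits.terminal.from X) := by infer_instance
    exact QuasiCompact.of_comp U.ι (Limits.terminal.from X)
  have hiso : ∀ x, x ∉ U → ∃ W : X.Opens, x ∈ W ∧ ∀ y ∈ W, y ∉ U → y = x := fun x hx =>
    exists_isolating hdisc hx
  have hgen : ∀ x : X, x ∉ U → ∀ η, η ⤳ x → η ≠ x → η ∈ U := fun x hx η h hne => by
    obtain ⟨W, hxW, hW⟩ := hiso x hx
    exact by_contra fun hη => hne (hW η (h.mem_open W.2 hxW) hη)
  obtain ⟨a, ha⟩ := exists_pole hU hfin hloc hgen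
  have hx : ∀ x : {x : X // x ∉ U}, ∃ (N : ℕ) (V : X.Opens) (g : Γ(X, V)), 0 < N ∧ x.1 ∈ V ∧
      (∀ y ∈ V, y ∉ U → y = x.1) ∧ X.basicOpen g = U ⊓ V ∧
      resR (inf_le_left : U ⊓ V ≤ U) a ^ N * resR inf_le_right g = 1 := fun x => by
    obtain ⟨W, hxW, hW⟩ := hiso x.1 x.2
    obtain ⟨N, V, g, hN, hxV, hVW, hg, hag⟩ := exists_unit_equation a x.2 (hloc x.1 x.2).1
      (hloc x.1 x.2).2 hxW hW fun η h hη => ha x.1 η x.2 h hη
    exact ⟨N, V, g, hN, hxV, fun y hy => hW y (hVW hy), hg, hag⟩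
  choose N V g hN hxV hVU hg hag using hx
  have : Finite {x : X // x ∉ U} := hfin.to_subtype
  have := Fintype.ofFinite {x : X // x ∉ U}
  let M := ∏ x, N x
  have hM : ∀ x, ∃ k, M = N x * k := fun x => Finset.dvd_prod_of_mem N (Finset.mem_univ x)
  choose k hk using hM
  have hk0 : ∀ x, 0 < k x := fun x => Nat.pos_of_mul_pos_left (a := N x) <| by
    rw [← hk x]
    exact Finset.prod_pos fun y _ => hN y
  obtain ⟨L, s, hL, hs, ht⟩ := exists_genLocus_eq U V (fun x hx => ⟨⟨x, hx⟩, hxV ⟨x, hx⟩⟩)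
    (fun i j hij z hz => by_contra fun hzU =>
      hij (Subtype.ext ((hVU i z hz.1 hzU).symm.trans (hVU j z hz.2 hzU))))
    (fun x => g x ^ k x) fun x => by rw [X.basicOpen_pow _ (hk0 x), hg]
  obtain ⟨t, ht⟩ := ht (a ^ M) fun x => by
    rw [map_pow, map_pow, hk x, pow_mul, ← mul_pow, hag, one_pow]
  exact ⟨L, s, t, hL, hs, fun x hx => ht ⟨x, hx⟩ (hxV ⟨x, hx⟩)⟩

end Groth.Agent.VarBase.DimOne
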