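import Groth.Agent.VarBase.DimOne.GlobGen
import Groth.Agent.AmpleX.Basis
import Groth.Agent.InvX.GenEpi
import Mathlib.Topology.KrullDimension

/-!
# Ample modules on separated Noetherian schemes of dimension at most one
-/

universe u

open CategoryTheory AlgebraicGeometry TopologicalSpace

set_option backward.isDefEq.respectTransparency false
set_option backward.isDefEq.respectTransparency.types false

namespace Groth.Agent.VarBase.DimOne

open Groth.Agent.AModX Groth.Agent.InvX

variable {X : Scheme.{u}}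

theorem ringKrullDim_stalk_le {n : WithBot ℕ∞} (hdim : topologicalKrullDim X ≤ n) (x : X) :
    ringKrullDim (X.presheaf.stalk x) ≤ n := by
  rw [← PrimeSpectrum.topologicalKrullDim_eq_ringKrullDim]
  exact ((X.fromSpecStalk x).isEmbedding.isInducing.topologicalKrullDim_le).trans hdim

/-- Sections whose generating loci cover generate. -/
theorem generatedBy_of_genLocus {L : X.Modules} {ι : Type*} (s : ι → (Coh.structureModule X ⟶ L))
    (h : ∀ x, ∃ i, x ∈ CohB1.genLocus L (s i)) : ProjUP.GeneratedBy L fun i => one (s i) := by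
  intro x
  obtain ⟨i, hi⟩ := h x
  obtain ⟨U, hxU, hU⟩ := mem_genLocus hi
  refine eq_top_iff.2 fun m _ => ?_
  obtain ⟨r, hr⟩ := (hU.germ_bijective hxU).2 m
  rw [← hr]
  refine Submodule.smul_mem _ r (Submodule.subset_span ⟨i, ?_⟩)
  exact (L.presheaf.germ_res_apply (homOfLE le_top) x hxU (one (s i))).symm

/-- A finite set without specializations inside it is discrete. -/
theorem discreteTopology_of_finite {Z : Set X} (hfin : Z.Finite)
    (h : ∀ y ∈ Z, ∀ z ∈ Z, y ⤳ z → y = z) : DiscreteTopology ↥Z := by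
  have := hfin.to_subtype
  have : T1Space ↥Z := t1Space_iff_specializes_imp_eq.2 fun y z hyz =>
    Subtype.ext (h y y.2 z z.2 ((subtype_specializes_iff _ _).1 hyz))
  infer_instance

theorem isClosed_singleton_of_specializes_ne (hdim : topologicalKrullDim X ≤ 1) {η y : X} (h : η ⤳ y)
    (hne : η ≠ y) : IsClosed ({y} : Set X) := by
  refine closure_subset_iff_isClosed.1 fun z hz => by_contra fun hzy => ?_
  have hyz : y ⤳ z := specializes_iff_mem_closure.2 hz
  exact hne (eq_of_specializes (ringKrullDim_stalk_le hdim z) h hyz fun e => hzy e.symm)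

/-- A closed set of closed points of a Noetherian space is finite. -/
theorem finite_of_isClosed_of_closed_points [NoetherianSpace X] {T : Set X} (hT : IsClosed T)
    (h : ∀ y ∈ T, IsClosed ({y} : Set X)) : T.Finite := by
  obtain ⟨S, hS, hcl, hirr, hTeq⟩ := NoetherianSpace.exists_finite_set_isClosed_irreducible hT
  have hsub : ∀ s ∈ S, s.Subsingleton := by
    intro s hs
    obtain ⟨η, hη⟩ := QuasiSober.sober (hirr s hs) (hcl s hs)
    have hηT : η ∈ T := hTeq ▸ ⟨s, hs, hη.mem⟩
    rw [← hη.def, (h η hηT).closure_eq]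
    exact Set.subsingleton_singleton
  rw [hTeq, Set.sUnion_eq_biUnion]
  exact hS.biUnion fun s hs => (hsub s hs).finite

/-- Around every point a dense affine open with finite discrete complement. -/
theorem exists_affine_cofinite [IsNoetherian X] (hdim : topologicalKrullDim X ≤ 1) (x : X) :
    ∃ U : X.Opens, IsAffineOpen U ∧ x ∈ U ∧ ((U : Set X)ᶜ).Finite ∧ DiscreteTopology ↥((U : Set X)ᶜ) := by
  classical
  obtain ⟨_, ⟨W, hW, rfl⟩, hxW, -⟩ :=
    X.isBasis_affineOpens.exists_subset_of_mem_open (Set.mem_univ x) isOpen_univ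
  have hfin : (irreducibleComponents X).Finite := finite_irreducibleComponents_of_isNoetherian
  let C := {Z : irreducibleComponents X // Disjoint (Z.1 : Set X) (W : Set X)}
  have : Finite (irreducibleComponents X) := hfin.to_subtype
  -- affine opens inside a single component
  have hA : ∀ Z : C, ∃ A : X.Opens, IsAffineOpen A ∧ (A : Set X).Nonempty ∧ (A : Set X) ⊆ Z.1.1 ∧
      ∀ Z' : irreducibleComponents X, Z' ≠ Z.1 → Disjoint (A : Set X) Z'.1 := by
    intro Z
    have hO : IsClosed (⋃ Z' ∈ {Z' : irreducibleComponents X | Z' ≠ Z.1}, Z'.1) :=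
      (Set.toFinite _).isClosed_biUnion fun Z' _ => isClosed_of_mem_irreducibleComponents _ Z'.2
    obtain ⟨η, hη⟩ := QuasiSober.sober Z.1.2.1 (isClosed_of_mem_irreducibleComponents _ Z.1.2)
    have hηO : η ∉ ⋃ Z' ∈ {Z' : irreducibleComponents X | Z' ≠ Z.1}, Z'.1 := fun h => by
      obtain ⟨Z', hne, hηZ'⟩ := Set.mem_iUnion₂.1 h
      have hsub : Z.1.1 ⊆ Z'.1 :=
        hη.def ▸ (isClosed_of_mem_irreducibleComponents _ Z'.2).closure_subset_iff.2
          (Set.singleton_subset_iff.2 hηZ')
      exact hne (Subtype.ext (Set.Subset.antisymm (Z.1.2.2 Z'.2.1 hsub) hsub))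
    obtain ⟨_, ⟨A, hA, rfl⟩, hηA, hAO⟩ :=
      X.isBasis_affineOpens.exists_subset_of_mem_open (show η ∈ (⋃ Z' ∈ {Z' : irreducibleComponents X | Z' ≠ Z.1}, Z'.1)ᶜ from hηO) hO.isOpen_compl
    refine ⟨A, hA, ⟨η, hηA⟩, fun y hy => ?_, fun Z' hne => Set.disjoint_left.2 fun y hy hy' =>
      hAO hy (Set.mem_biUnion hne hy')⟩
    obtain ⟨Z', hZ', hyZ'⟩ : ∃ Z' ∈ irreducibleComponents X, y ∈ Z' :=
      ⟨irreducibleComponent y, irreducibleComponent_mem_irreducibleComponents y, mem_irreducibleComponent⟩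
    by_contra hyZ
    exact hAO hy (Set.mem_biUnion (x := ⟨Z', hZ'⟩) (fun e => hyZ (by rw [← e]; exact hyZ')) hyZ')
  choose A hAaff hAne hAsub hAdis using hA
  let F : Option C → X.Opens := fun i => i.elim W A
  let U := iSup F
  have hUaff : IsAffineOpen U := IsAffineOpen.iSup_of_disjoint
    (fun i => by cases i <;> [exact hW; exact hAaff _]) fun i j hij => by
      show Disjoint (F i) (F j)
      rw [← Opens.coe_disjoint]
      match i, j, hij with
      | none, none, h => exact absurd rfl h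
      | none, some Z, _ => exact ((Z.2.mono_left (hAsub Z)).symm)
      | some Z, none, _ => exact Z.2.mono_left (hAsub Z)
      | some Z, some Z', h =>
        exact (hAdis Z Z'.1 fun e => h (congrArg some (Subtype.ext e.symm))).mono_right (hAsub Z')
  -- every irreducible component has its generic point in `U`
  have hgen : ∀ y : X, ∃ η ∈ U, η ⤳ y := by
    intro y
    let Z : irreducibleComponents X :=
      ⟨irreducibleComponent y, irreducibleComponent_mem_irreducibleComponents y⟩
    obtain ⟨η, hη⟩ := QuasiSober.sober Z.2.1 (isClosed_of_mem_irreducibleComponents _ Z.2)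
    refine ⟨η, ?_, hη.specializes mem_irreducibleComponent⟩
    by_cases hd : Disjoint (Z.1 : Set X) (W : Set X)
    · obtain ⟨z, hz⟩ := hAne ⟨Z, hd⟩
      exact Opens.mem_iSup.2 ⟨some ⟨Z, hd⟩,
        (hη.specializes (hAsub ⟨Z, hd⟩ hz)).mem_open (A _).2 hz⟩
    · obtain ⟨z, hzZ, hzW⟩ := Set.not_disjoint_iff.1 hd
      exact Opens.mem_iSup.2 ⟨none, (hη.specializes hzZ).mem_open W.2 hzW⟩
  have hclosed : ∀ y ∈ (U : Set X)ᶜ, IsClosed ({y} : Set X) := fun y hy => by
    obtain ⟨η, hηU, h⟩ := hgen y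
    exact isClosed_singleton_of_specializes_ne hdim h fun e => hy (e ▸ hηU)
  have hfinU := finite_of_isClosed_of_closed_points U.2.isClosed_compl hclosed
  refine ⟨U, hUaff, Opens.mem_iSup.2 ⟨none, hxW⟩, hfinU, discreteTopology_of_finite hfinU ?_⟩
  intro y hy z _ hyz
  exact ((hclosed y hy).closure_eq ▸ specializes_iff_mem_closure.1 hyz : z ∈ ({y} : Set X)).symm

/-- **A separated Noetherian scheme of dimension at most one has an ample invertible module.** -/
theorem exists_isAmple [IsNoetherian X] [X.IsSeparated] (hdim : topologicalKrullDim X ≤ 1) :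
    ∃ L : X.Modules, CohB1.IsAmple L := by
  classical
  choose U hU hxU hfin hdisc using exists_affine_cofinite hdim
  have hsec : ∀ x : X, ∃ (L : X.Modules) (s t : Coh.structureModule X ⟶ L), PicF.IsInvertible L ∧
      CohB1.genLocus L s = U x ∧ ∀ y, y ∉ U x → y ∈ CohB1.genLocus L t := fun x =>
    exists_two_sections (hU x) (hfin x) (hdisc x) fun y _ => ⟨inferInstance, ringKrullDim_stalk_le hdim y⟩
  choose L s t hL hs ht using hsec
  obtain ⟨J, hJ⟩ := CompactSpace.elim_nhds_subcover (fun x => (U x : Set X))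
    (fun x => (U x).2.mem_nhds (hxU x))
  suffices H : ∃ M : X.Modules, PicF.IsInvertible M ∧ ∀ x, ∃ σ : Coh.structureModule X ⟶ M,
      x ∈ CohB1.genLocus M σ ∧ ((∃ j ∈ J, x ∈ U j) → IsAffineOpen (CohB1.genLocus M σ)) by
    obtain ⟨M, hM, h⟩ := H
    refine ⟨M, hM, inferInstance, fun x => ?_⟩
    obtain ⟨σ, hxσ, hσ⟩ := h x
    refine ⟨0, powHom σ 1, ?_⟩
    rw [genLocus_powHom hM σ 0]
    exact ⟨hxσ, hσ (by
      obtain ⟨j, hj, hxj⟩ := Set.mem_iUnion₂.1 (hJ.ge (Set.mem_univ x))
      exact ⟨j, hj, hxj⟩)⟩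
  clear hJ
  induction J using Finset.induction_on with
  | empty =>
    refine ⟨Coh.structureModule X, InvX.isInvertible_structureModule, fun x => ⟨𝟙 _, ?_, ?_⟩⟩
    · exact le_genLocus _ (U := ⊤) (by rw [res_self]; exact InvX.isFrame_one ⊤) trivial
    · simp
  | insert j J _ ih =>
    obtain ⟨M, hM, h⟩ := ih
    refine ⟨CohB1.tensorMod M (L j), isInvertible_tensorMod hM (hL j), fun x => ?_⟩
    obtain ⟨σ, hxσ, hσ⟩ := h x
    by_cases hxj : x ∈ U j
    · refine ⟨mulHom σ (s j), ?_, fun _ => ?_⟩ <;> rw [genLocus_mulHom hM (hL j), hs j]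
      · exact ⟨hxσ, hxj⟩
      · rw [inf_comm]
        exact AmpleX.isAffineOpen_inf_genLocus hM (hU j) σ
    · refine ⟨mulHom σ (t j), ?_, fun ⟨i, hi, hxi⟩ => ?_⟩ <;> rw [genLocus_mulHom hM (hL j)]
      · exact ⟨hxσ, ht j x hxj⟩
      · refine AmpleX.isAffineOpen_inf_genLocus (hL j) (hσ ⟨i, ?_, hxi⟩) (t j)
        rcases Finset.mem_insert.1 hi with rfl | hi
        · exact absurd hxi hxj
        · exact hi

end Groth.Agent.VarBase.DimOne
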