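import Groth.Agent.VarBase.DimOne.Ample
import Groth.Agent.Pic13Lib.JointEmb
import Groth.Agent.Ega2Va.Main
import Groth.Agent.VarDim.Fibre
import Groth.Agent.VarDim.Top
import Mathlib.AlgebraicGeometry.Morphisms.Immersion
import Mathlib.AlgebraicGeometry.Morphisms.SchemeTheoreticallyDominant

/-!
# Schemes of dimension at most one over a field are quasi-projective
-/

universe u

open CategoryTheory CategoryTheory.Limits AlgebraicGeometry TopologicalSpace

set_option linter.style.haveILetI false
set_option backward.isDefEq.respectTransparency false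
set_option backward.isDefEq.respectTransparency.types false

namespace Groth.Agent.VarBase.DimOne

open Groth.Agent

variable {k : Type u} [Field k] {X : Scheme.{u}} (p : X ⟶ Spec (CommRingCat.of k))
  [LocallyOfFiniteType p] [QuasiCompact p]

include p

theorem isNoetherian_of_field : IsNoetherian X :=
  have : IsLocallyNoetherian X := LocallyOfFiniteType.isLocallyNoetherian p
  have : CompactSpace X := QuasiCompact.compactSpace_of_compactSpace p
  { }

/-- An ample module on a separated scheme of finite type over a field gives an immersion into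
projective space. -/
theorem exists_immersion_of_ample [IsSeparated p] {H : X.Modules} (hH : CohB1.IsAmple H) :
    ∃ (n : ℕ) (i : X ⟶ CohB1.ProjSpace n k), IsImmersion i ∧ i ≫ CohB1.ProjSpace.toSpec n k = p := by
  obtain ⟨a, -, n, i, hi, hiq, -⟩ := Ega2Va.exists_pow_veryAmple p hH
  let p₁ := pullback.fst (CohB1.ProjSpace.toSpec n (ULift.{u} ℤ)) (specULiftZIsTerminal.from (Spec (CommRingCat.of k)))
  let p₂ := pullback.snd (CohB1.ProjSpace.toSpec n (ULift.{u} ℤ)) (specULiftZIsTerminal.from (Spec (CommRingCat.of k)))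
  haveI := PnCoh.Chow.isProper_toSpec n (ULift.{u} ℤ)
  haveI : IsProper p₂ := MorphismProperty.pullback_snd _ _ inferInstance
  haveI : IsClosedImmersion (PnCoh.Chow.relMap p₁ p₂) := by
    refine Pic13Lib.isClosedImmersion_relMap_of_joint p₁ p₂ (fun a b h1 h2 => pullback.hom_ext h1 h2)
      ((Int.castRingHom k).comp (ULift.ringEquiv : ULift.{u} ℤ ≃+* ℤ).toRingHom) (specULiftZIsTerminal.hom_ext _ _)
  haveI := hi
  refine ⟨n, i ≫ PnCoh.Chow.relMap p₁ p₂, inferInstance, ?_⟩
  exact (Category.assoc _ _ _).trans ((congrArg (i ≫ ·) (PnCoh.Chow.relMap_toSpec p₁ p₂)).trans hiq)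

theorem exists_immersion_dim_le_one [IsSeparated p] (hdim : topologicalKrullDim X ≤ 1) :
    ∃ (n : ℕ) (i : X ⟶ CohB1.ProjSpace n k), IsImmersion i ∧ i ≫ CohB1.ProjSpace.toSpec n k = p := by
  haveI := isNoetherian_of_field p
  haveI : X.IsSeparated := ⟨by
    rw [← Limits.terminal.comp_from p]
    infer_instance⟩
  obtain ⟨L, hL⟩ := exists_isAmple hdim
  exact exists_immersion_of_ample p hL

theorem exists_closedImmersion_dim_le_one [IsProper p] (hdim : topologicalKrullDim X ≤ 1) :
    ∃ (n : ℕ) (i : X ⟶ CohB1.ProjSpace n k), IsClosedImmersion i ∧ i ≫ CohB1.ProjSpace.toSpec n k = p := by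
  obtain ⟨n, i, hi, hip⟩ := exists_immersion_dim_le_one p hdim
  refine ⟨n, i, ?_, hip⟩
  haveI := PnCoh.Chow.isProper_toSpec n k
  haveI : IsSeparated (CohB1.ProjSpace.toSpec n k) := inferInstance
  haveI : IsProper (i ≫ CohB1.ProjSpace.toSpec n k) := hip ▸ inferInstance
  haveI : IsProper i := IsProper.of_comp i (CohB1.ProjSpace.toSpec n k)
  exact IsClosedImmersion.of_isPreimmersion i i.isClosedMap.isClosed_range

/-- The boundary of a scheme of dimension at most one in a closure consists of finitely many closed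
points. -/
theorem boundary {Y : Scheme.{u}} (q : Y ⟶ Spec (CommRingCat.of k)) [LocallyOfFiniteType q]
    [QuasiCompact q] (j : X ⟶ Y) [IsOpenImmersion j] (hjq : j ≫ q = p) (hd : Dense (Set.range j.base))
    (hdim : topologicalKrullDim X ≤ 1) :
    (Set.range j.base)ᶜ.Finite ∧ ∀ y ∈ (Set.range j.base)ᶜ, IsClosed ({y} : Set Y) := by
  haveI := isNoetherian_of_field p
  haveI := isNoetherian_of_field q
  have hfin : (irreducibleComponents X).Finite := finite_irreducibleComponents_of_isNoetherian
  have hcl : ∀ y ∈ (Set.range j.base)ᶜ, IsClosed ({y} : Set Y) := by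
    intro y hy
    have hG : IsClosed (⋃ C ∈ irreducibleComponents X, closure (j.base '' C)) :=
      hfin.isClosed_biUnion fun _ _ => isClosed_closure
    have hsub : Set.range j.base ⊆ ⋃ C ∈ irreducibleComponents X, closure (j.base '' C) := by
      rintro _ ⟨x, rfl⟩
      exact Set.mem_biUnion (irreducibleComponent_mem_irreducibleComponents x)
        (subset_closure ⟨x, mem_irreducibleComponent, rfl⟩)
    obtain ⟨C, hC, hyC⟩ := Set.mem_iUnion₂.1 (hG.closure_subset_iff.2 hsub (hd y))
    obtain ⟨η, hη⟩ := QuasiSober.sober hC.1 (isClosed_of_mem_irreducibleComponents C hC)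
    have hηy : j η ⤳ y := by
      rw [specializes_iff_mem_closure]
      refine closure_minimal ?_ isClosed_closure hyC
      rw [← hη.def]
      exact (image_closure_subset_closure_image j.continuous).trans (by rw [Set.image_singleton])
    haveI : LocallyOfFiniteType (j ≫ q) := inferInstance
    have hdeg : VarDim.deg q (j η) ≤ 1 := by
      have h1 : VarDim.deg (j ≫ q) η = VarDim.deg q (j η) := VarDim.deg_comp q j η
      have h2 : ((VarDim.deg (j ≫ q) η : ℕ∞) : WithBot ℕ∞) ≤ 1 := by
        refine le_trans ?_ hdim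
        rw [VarDim.topologicalKrullDim_eq_iSup_deg (j ≫ q)]
        exact le_iSup (fun x : X => ((VarDim.deg (j ≫ q) x : ℕ∞) : WithBot ℕ∞)) η
      have h3 : VarDim.deg (j ≫ q) η ≤ 1 := by exact_mod_cast h2
      exact h1 ▸ h3
    rw [VarDim.closedPoint_iff_deg_eq_zero q]
    by_contra h0
    refine hy ⟨η, (VarDim.eq_of_specializes_of_deg_le q hηy ?_)⟩
    omega
  exact ⟨finite_of_isClosed_of_closed_points j.isOpenEmbedding.isOpen_range.isClosed_compl hcl, hcl⟩

theorem exists_completion [IsSeparated p] (hdim : topologicalKrullDim X ≤ 1) :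
    ∃ (d : ℕ) (Y : Scheme.{u}) (c : Y ⟶ CohB1.ProjSpace d k) (j : X ⟶ Y), IsClosedImmersion c ∧
      IsOpenImmersion j ∧ j ≫ c ≫ CohB1.ProjSpace.toSpec d k = p ∧ Dense (Set.range j.base) ∧
      IsSchemeTheoreticallyDominant j ∧ (Set.range j.base)ᶜ.Finite ∧
      ∀ y ∈ (Set.range j.base)ᶜ, IsClosed ({y} : Set Y) := by
  obtain ⟨d, i, hi, hip⟩ := exists_immersion_dim_le_one p hdim
  haveI := hi
  haveI := PnCoh.Chow.isProper_toSpec d k
  haveI : QuasiCompact (i ≫ CohB1.ProjSpace.toSpec d k) := hip ▸ inferInstance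
  haveI : QuasiCompact i := QuasiCompact.of_comp i (CohB1.ProjSpace.toSpec d k)
  have hd : Dense (Set.range i.toImage.base) := (inferInstance : IsDominant i.toImage).denseRange
  have hjq : i.toImage ≫ i.imageι ≫ CohB1.ProjSpace.toSpec d k = p := by
    rw [← Category.assoc, i.toImage_imageι]; exact hip
  have hst : IsSchemeTheoreticallyDominant i.toImage := by
    refine ⟨Scheme.IdealSheafData.ext_of_iSup_eq_top (fun U : (CohB1.ProjSpace d k).affineOpens =>
      ⟨i.imageι ⁻¹ᵁ U.1, U.2.preimage i.imageι⟩) ?_ fun U => ?_⟩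
    · refine top_unique fun y _ => ?_
      obtain ⟨_, ⟨V, hV, rfl⟩, hyV, -⟩ :=
        (CohB1.ProjSpace d k).isBasis_affineOpens.exists_subset_of_mem_open (Set.mem_univ (i.imageι y)) isOpen_univ
      exact Opens.mem_iSup.2 ⟨⟨V, hV⟩, hyV⟩
    · rw [Scheme.Hom.ker_apply, Scheme.IdealSheafData.ideal_bot]
      exact (RingHom.injective_iff_ker_eq_bot _).1 (i.toImage_app_injective (U := U))
  obtain ⟨hf, hc⟩ := boundary p (i.imageι ≫ CohB1.ProjSpace.toSpec d k) i.toImage hjq hd hdim
  exact ⟨d, i.image, i.imageι, i.toImage, inferInstance, inferInstance, hjq, hd, hst, hf, hc⟩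

end Groth.Agent.VarBase.DimOne
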