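import Groth.Agent.VarBase.DimOne.Glue
import Groth.Agent.InvX.Pullback
import Mathlib.AlgebraicGeometry.Restrict

/-!
# Recognizing pullbacks of invertible modules by frames
-/

universe u

open CategoryTheory CategoryTheory.Limits AlgebraicGeometry TopologicalSpace

set_option backward.isDefEq.respectTransparency false
set_option backward.isDefEq.respectTransparency.types false

namespace Groth.Agent.VarBase.DimOne

open Groth.Agent.AModX Groth.Agent.InvX

variable {X Y : Scheme.{u}}

/-- Where a morphism restricts to an isomorphism, functions correspond. -/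
theorem bijective_app (f : X ⟶ Y) (U : Y.Opens) [IsIso (f ∣_ U)] {W : Y.Opens} (hW : W ≤ U) :
    Function.Bijective (f.app W) := by
  obtain ⟨V, rfl⟩ : ∃ V : U.toScheme.Opens, U.ι ''ᵁ V = W := ⟨U.ι ⁻¹ᵁ W, by
    rw [Scheme.Hom.image_preimage_eq_opensRange_inf, Scheme.Opens.opensRange_ι]
    exact inf_eq_right.mpr hW⟩
  have h : IsIso ((f ∣_ U).app V) := inferInstance
  rw [morphismRestrict_app] at h
  have h3 : IsIso (X.presheaf.map (eqToHom (image_morphismRestrict_preimage f U V)).op) := inferInstance
  have h2 : IsIso (f.app (U.ι ''ᵁ V)) := @IsIso.of_isIso_comp_right _ _ _ _ _ _ _ h3 h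
  exact (ConcreteCategory.isIso_iff_bijective _).1 h2

/-- A frame upstairs is a frame of the direct image below opens over which the morphism is an
isomorphism. -/
theorem isFrame_pushforward (f : X ⟶ Y) {M : X.Modules} {U : Y.Opens} [IsIso (f ∣_ U)] {W : Y.Opens}
    (hW : W ≤ U) {O : X.Opens} (hO : f ⁻¹ᵁ W ≤ O) {e : Γ(M, O)} (he : IsFrame e) :
    IsFrame (M := (Scheme.Modules.pushforward f).obj M) (U := W) (res M hO e) := fun W' hW' => by
  have key : (fun r : Γ(Y, W') => r • res ((Scheme.Modules.pushforward f).obj M) hW' (res M hO e)) =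
      (fun r : Γ(X, f ⁻¹ᵁ W') => r • res M ((f.preimage_mono hW').trans hO) e) ∘ (f.app W') := by
    funext r
    show (f.app W') r • res M (f.preimage_mono hW') (res M hO e) = _
    rw [res_res]
    rfl
  exact (congrArg Function.Bijective key).mpr ((he _ _).comp (bijective_app f U (hW'.trans hW)))

/-- A morphism to a direct image carrying frames to frames upstairs identifies the pullback. -/
theorem nonempty_pullback_iso (f : X ⟶ Y) {N : Y.Modules} {M : X.Modules}
    (φ : N ⟶ (Scheme.Modules.pushforward f).obj M) {ι : Type u} (V : ι → Y.Opens)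
    (hcov : ∀ x : X, ∃ i, f x ∈ V i) (E : ∀ i, Γ(N, V i)) (hE : ∀ i, IsFrame (E i))
    (hφ : ∀ i, IsFrame (M := M) (U := f ⁻¹ᵁ V i) (φ.app (V i) (E i))) :
    Nonempty ((Scheme.Modules.pullback f).obj N ≅ M) := by
  let adj := Scheme.Modules.pullbackPushforwardAdjunction f
  let ψ := (adj.homEquiv N M).symm φ
  have hval : ∀ i, ψ.app (f ⁻¹ᵁ V i) (pullElt f (E i)) = φ.app (V i) (E i) := fun i => by
    have h : adj.unit.app N ≫ (Scheme.Modules.pushforward f).map ψ = φ :=
      (adj.homEquiv_unit (f := ψ)).symm.trans ((adj.homEquiv N M).apply_symm_apply φ)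
    exact ConcreteCategory.congr_hom (congrArg (fun χ => Scheme.Modules.Hom.app χ (V i)) h) (E i)
  haveI : IsIso ψ := by
    rw [Scheme.Modules.Hom.isIso_iff_isIso_app]
    intro W
    rw [ConcreteCategory.isIso_iff_bijective]
    refine bijective_app_of_frames ψ (fun i => f ⁻¹ᵁ V i) ⊤ (fun x _ => hcov x) (fun i => pullElt f (E i))
      (fun i => isFrame_pullElt f (hE i)) (fun i => ?_) le_top
    rw [hval]
    exact IsFrame.res (hφ i) inf_le_left
  exact ⟨asIso ψ⟩

end Groth.Agent.VarBase.DimOne
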