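import Groth.Agent.InvUfdLib.Semilocal
import Mathlib.AlgebraicGeometry.Morphisms.QuasiCompact
import Mathlib.RingTheory.KrullDimension.Basic
import Mathlib.RingTheory.Ideal.MinimalPrime.Noetherian

/-!
# Neighbourhoods of a point whose local ring is Noetherian of dimension at most one
-/

universe u

open CategoryTheory AlgebraicGeometry TopologicalSpace

set_option backward.isDefEq.respectTransparency false
set_option backward.isDefEq.respectTransparency.types false

namespace Groth.Agent.VarBase.DimOne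

open Groth.Agent.AModX Groth.Agent.InvX

variable {X : Scheme.{u}} {x : X}

theorem krullDimLE_one (hd : ringKrullDim (X.presheaf.stalk x) ≤ 1) :
    Ring.KrullDimLE 1 (X.presheaf.stalk x) :=
  (Order.krullDimLE_iff _ _).2 (by exact_mod_cast hd)

/-- The prime of the local ring given by a generization. -/
noncomputable def genPrime {y : X} (h : y ⤳ x) : PrimeSpectrum (X.presheaf.stalk x) :=
  Spec.map (X.presheaf.stalkSpecializes h) (IsLocalRing.closedPoint (X.presheaf.stalk y))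

theorem fromSpecStalk_genPrime {y : X} (h : y ⤳ x) : X.fromSpecStalk x (genPrime h) = y := by
  unfold genPrime
  rw [← Scheme.Hom.comp_apply, Scheme.SpecMap_stalkSpecializes_fromSpecStalk]
  exact Scheme.fromSpecStalk_closedPoint

theorem genPrime_ne {y : X} (h : y ⤳ x) (hne : y ≠ x) :
    (genPrime h).asIdeal ≠ IsLocalRing.maximalIdeal (X.presheaf.stalk x) := by
  intro he
  apply hne
  rw [← fromSpecStalk_genPrime h,
    show genPrime h = IsLocalRing.closedPoint (X.presheaf.stalk x) from PrimeSpectrum.ext he]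
  exact Scheme.fromSpecStalk_closedPoint

/-- A prime of a local ring of dimension at most one containing a non-maximal prime is that prime or
the maximal ideal. -/
theorem eq_or_eq_of_le [Ring.KrullDimLE 1 (X.presheaf.stalk x)] {q P : Ideal (X.presheaf.stalk x)}
    (hq : q.IsPrime) (hP : P.IsPrime) (hle : q ≤ P) :
    P = q ∨ P = IsLocalRing.maximalIdeal (X.presheaf.stalk x) := by
  rcases Ring.krullDimLE_one_iff.1 ‹_› P hP with h | h
  · exact Or.inl (le_antisymm (h.2 ⟨hq, bot_le⟩ hle) hle)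
  · exact Or.inr (IsLocalRing.eq_maximalIdeal h)

theorem finite_gens (hN : IsNoetherianRing (X.presheaf.stalk x))
    (hd : ringKrullDim (X.presheaf.stalk x) ≤ 1) : {y : X | y ⤳ x}.Finite := by
  have := krullDimLE_one hd
  have hfin : (Set.univ : Set (PrimeSpectrum (X.presheaf.stalk x))).Finite := by
    refine Set.Finite.of_finite_image (f := PrimeSpectrum.asIdeal)
      (((minimalPrimes.finite_of_isNoetherianRing (X.presheaf.stalk x)).insert
        (IsLocalRing.maximalIdeal (X.presheaf.stalk x))).subset ?_)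
      (fun a _ b _ h => PrimeSpectrum.ext h)
    rintro _ ⟨q, -, rfl⟩
    rcases Ring.krullDimLE_one_iff.1 this q.asIdeal q.isPrime with h | h
    · exact Or.inr h
    · exact Or.inl (IsLocalRing.eq_maximalIdeal h)
  rw [← Scheme.range_fromSpecStalk, ← Set.image_univ]
  exact hfin.image _

/-- There are no chains of two proper generizations. -/
theorem eq_of_specializes (hd : ringKrullDim (X.presheaf.stalk x) ≤ 1) {y z : X} (hyz : y ⤳ z)
    (hzx : z ⤳ x) (hne : z ≠ x) : y = z := by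
  have := krullDimLE_one hd
  have hle : genPrime (hyz.trans hzx) ≤ genPrime hzx := by
    refine (PrimeSpectrum.le_iff_specializes _ _).2
      ((X.fromSpecStalk x).isEmbedding.isInducing.specializes_iff.1 ?_)
    have h1 := fromSpecStalk_genPrime (hyz.trans hzx)
    have h2 := fromSpecStalk_genPrime hzx
    exact (specializes_of_eq h1).trans (hyz.trans (specializes_of_eq h2.symm))
  rcases eq_or_eq_of_le (genPrime (hyz.trans hzx)).isPrime (genPrime hzx).isPrime hle with h | h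
  · have he : genPrime hzx = genPrime (hyz.trans hzx) := PrimeSpectrum.ext h
    exact (fromSpecStalk_genPrime (hyz.trans hzx)).symm.trans
      ((congrArg (X.fromSpecStalk x) he.symm).trans (fromSpecStalk_genPrime hzx))
  · exact absurd h (genPrime_ne hzx hne)

section Affine

variable {V : X.Opens} (hV : IsAffineOpen V)
include hV

theorem mem_basicOpen_iff (a : Γ(X, V)) {y : X} (hy : y ∈ V) :
    y ∈ X.basicOpen a ↔ a ∉ (hV.primeIdealOf ⟨y, hy⟩).asIdeal := by
  have h : hV.primeIdealOf ⟨y, hy⟩ ∈ hV.fromSpec ⁻¹ᵁ X.basicOpen a ↔ y ∈ X.basicOpen a :=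
    iff_of_eq (congrArg (· ∈ X.basicOpen a) (hV.fromSpec_primeIdealOf ⟨y, hy⟩))
  rw [← h, hV.fromSpec_preimage_basicOpen]
  exact Iff.rfl

theorem fromSpec_mem (q : PrimeSpectrum Γ(X, V)) : hV.fromSpec q ∈ V := by
  have := Set.mem_range_self (f := hV.fromSpec) q
  rwa [hV.range_fromSpec] at this

theorem specializes_of_le {q : PrimeSpectrum Γ(X, V)} {y : X} (hy : y ∈ V)
    (hle : q.asIdeal ≤ (hV.primeIdealOf ⟨y, hy⟩).asIdeal) : hV.fromSpec q ⤳ y := by
  have h : q ⤳ hV.primeIdealOf ⟨y, hy⟩ := (PrimeSpectrum.le_iff_specializes _ _).1 hle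
  have := h.map hV.fromSpec.continuous
  rwa [hV.fromSpec_primeIdealOf] at this

/-- **Shrinking lemma.** An open containing the generizations of `x` in `D(f)` contains `D(f)` near
`x`. -/
theorem exists_basicOpen_inf_le (hxV : x ∈ V) (f : Γ(X, V)) (W : X.Opens)
    (hW : ∀ y, y ⤳ x → y ∈ X.basicOpen f → y ∈ W) :
    ∃ h : Γ(X, V), x ∈ X.basicOpen h ∧ X.basicOpen h ⊓ X.basicOpen f ≤ W := by
  classical
  let p := (hV.primeIdealOf ⟨x, hxV⟩).asIdeal
  let I : Ideal Γ(X, V) := Ideal.span {a | X.basicOpen a ≤ W}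
  by_cases hdisj : Disjoint (I : Set Γ(X, V))
      ((p.primeCompl ⊔ Submonoid.powers f : Submonoid Γ(X, V)) : Set Γ(X, V))
  · exfalso
    obtain ⟨Q, hQ, hIQ, hQd⟩ := Ideal.exists_le_prime_disjoint I _ hdisj
    let y : X := hV.fromSpec ⟨Q, hQ⟩
    have hyx : y ⤳ x := specializes_of_le hV hxV fun a ha => by_contra fun hap =>
      Set.disjoint_left.1 hQd ha (show a ∈ _ from (le_sup_left : p.primeCompl ≤ p.primeCompl ⊔ _) hap)
    have hyf : y ∈ X.basicOpen f := by
      show (⟨Q, hQ⟩ : PrimeSpectrum Γ(X, V)) ∈ hV.fromSpec ⁻¹ᵁ X.basicOpen f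
      rw [hV.fromSpec_preimage_basicOpen]
      exact fun hfQ => Set.disjoint_left.1 hQd hfQ
        ((le_sup_right : Submonoid.powers f ≤ p.primeCompl ⊔ _) (Submonoid.mem_powers f))
    obtain ⟨a, haW, hya⟩ := hV.exists_basicOpen_le ⟨y, hW y hyx hyf⟩ (fromSpec_mem hV _)
    change (⟨Q, hQ⟩ : PrimeSpectrum Γ(X, V)) ∈ hV.fromSpec ⁻¹ᵁ X.basicOpen a at hya
    rw [hV.fromSpec_preimage_basicOpen] at hya
    exact hya (hIQ (Ideal.subset_span haW))
  · obtain ⟨z, hzI, hzS⟩ := Set.not_disjoint_iff.1 hdisj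
    obtain ⟨h, hh, _, ⟨n, rfl⟩, rfl⟩ := Submonoid.mem_sup.1 hzS
    refine ⟨h, (mem_basicOpen_iff hV h hxV).2 hh, fun y hy => ?_⟩
    have hyV : y ∈ V := X.basicOpen_le h hy.1
    have hnot : h * f ^ n ∉ (hV.primeIdealOf ⟨y, hyV⟩).asIdeal := fun hm =>
      ((hV.primeIdealOf ⟨y, hyV⟩).isPrime.mem_or_mem hm).elim ((mem_basicOpen_iff hV h hyV).1 hy.1)
        fun hm => (mem_basicOpen_iff hV f hyV).1 hy.2
          ((hV.primeIdealOf ⟨y, hyV⟩).isPrime.mem_of_pow_mem n hm)
    obtain ⟨a, ha, hya⟩ : ∃ a, X.basicOpen a ≤ W ∧ a ∉ (hV.primeIdealOf ⟨y, hyV⟩).asIdeal := by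
      by_contra! hall
      exact hnot ((Ideal.span_le (I := (hV.primeIdealOf ⟨y, hyV⟩).asIdeal)).2 hall hzI)
    exact ha ((mem_basicOpen_iff hV a hyV).2 hya)

end Affine

/-- Near a point outside `U` the open `U` is cut out by one equation. -/
theorem exists_local_eq {U : X.Opens} [QuasiCompact U.ι] (hxU : x ∉ U)
    (hN : IsNoetherianRing (X.presheaf.stalk x)) (hd : ringKrullDim (X.presheaf.stalk x) ≤ 1)
    (W : X.Opens) (hxW : x ∈ W) (hW : ∀ y ∈ W, y ∉ U → y = x) :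
    ∃ (V : X.Opens), IsAffineOpen V ∧ x ∈ V ∧ V ≤ W ∧ ∃ f : Γ(X, V), X.basicOpen f = U ⊓ V := by
  classical
  obtain ⟨_, ⟨V, hV, rfl⟩, hxV, hVW⟩ :=
    X.isBasis_affineOpens.exists_subset_of_mem_open (show x ∈ (W : Set X) from hxW) W.isOpen
  let p := (hV.primeIdealOf ⟨x, hxV⟩).asIdeal
  have hgV : ∀ y, y ⤳ x → y ∈ V := fun y hy => hy.mem_open V.2 hxV
  -- the generizations other than `x`
  have hT : {y : X | y ⤳ x ∧ y ≠ x}.Finite := (finite_gens hN hd).subset fun y hy => hy.1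
  let P : X → Ideal Γ(X, V) := fun y => if h : y ∈ V then (hV.primeIdealOf ⟨y, h⟩).asIdeal else ⊤
  obtain ⟨f, hfp, hf⟩ : ∃ f ∈ p, ∀ y ∈ hT.toFinset, f ∉ P y := by
    by_contra! hcon
    have hsub : (p : Set Γ(X, V)) ⊆ ⋃ y ∈ (hT.toFinset : Set X), (P y : Set Γ(X, V)) := fun f hf => by
      obtain ⟨y, hy, hfy⟩ := hcon f hf
      exact Set.mem_biUnion hy hfy
    obtain ⟨y, hy, hle⟩ := (Ideal.subset_union_prime x x fun y hy _ _ => by
      simp only [P, dif_pos (hgV y (hT.mem_toFinset.1 hy).1)]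
      exact (hV.primeIdealOf _).isPrime).1 hsub
    obtain ⟨hyx, hne⟩ := hT.mem_toFinset.1 hy
    simp only [P, dif_pos (hgV y hyx)] at hle
    have hxy : x ⤳ y := by
      have := specializes_of_le hV (q := hV.primeIdealOf ⟨x, hxV⟩) (hgV y hyx) hle
      rwa [hV.fromSpec_primeIdealOf] at this
    exact hne (hyx.antisymm hxy).eq
  have hxf : x ∉ X.basicOpen f := fun h => (mem_basicOpen_iff hV f hxV).1 h hfp
  -- a finite cover of `U ⊓ V`
  have hqc : IsCompact ((U ⊓ V : X.Opens) : Set X) := by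
    have h1 : IsCompact (U.ι ⁻¹' (V : Set X)) :=
      U.ι.isCompact_preimage hV.isCompact
    have h2 := h1.image U.ι.continuous
    rw [Set.image_preimage_eq_inter_range, Scheme.Opens.range_ι] at h2
    rw [Opens.coe_inf, Set.inter_comm]
    exact h2
  have hcov : ∀ y : ↥((U ⊓ V : X.Opens) : Set X), ∃ g : Γ(X, V), X.basicOpen g ≤ U ⊓ V ∧ y.1 ∈ X.basicOpen g :=
    fun y => hV.exists_basicOpen_le ⟨y.1, y.2⟩ y.2.2
  choose g hgU hyg using hcov
  obtain ⟨t, ht⟩ := hqc.elim_finite_subcover (fun y => (X.basicOpen (g y) : Set X))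
    (fun y => (X.basicOpen (g y)).2) fun y hy => Set.mem_iUnion.2 ⟨⟨y, hy⟩, hyg ⟨y, hy⟩⟩
  have hh : ∀ y, ∃ h : Γ(X, V), x ∈ X.basicOpen h ∧ X.basicOpen h ⊓ X.basicOpen (g y) ≤ X.basicOpen f :=
    fun y => exists_basicOpen_inf_le hV hxV (g y) _ fun z hzx hzg => by
      have hne : z ≠ x := fun h => hxU (h ▸ (hgU y hzg).1)
      have := hf z (hT.mem_toFinset.2 ⟨hzx, hne⟩)
      simp only [P, dif_pos (hgV z hzx)] at this
      exact (mem_basicOpen_iff hV f _).2 this
  choose h hxh hle using hh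
  let H : Γ(X, V) := ∏ y ∈ t, h y
  have hxH : x ∈ X.basicOpen H := (mem_basicOpen_iff hV H hxV).2 fun hm => by
    obtain ⟨y, -, hy⟩ := (hV.primeIdealOf ⟨x, hxV⟩).isPrime.prod_mem_iff.1 hm
    exact (mem_basicOpen_iff hV (h y) hxV).1 (hxh y) hy
  refine ⟨X.basicOpen H, hV.basicOpen H, hxH, fun z hz => hVW (X.basicOpen_le H hz),
    resR (X.basicOpen_le H) f, ?_⟩
  rw [show resR (X.basicOpen_le H) f = X.presheaf.map (homOfLE (X.basicOpen_le H)).op f from rfl,
    Scheme.basicOpen_res]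
  ext z
  constructor
  · rintro ⟨hzH, hzf⟩
    refine ⟨by_contra fun hzU => hxf ?_, hzH⟩
    have := hW z (hVW (X.basicOpen_le H hzH)) hzU
    exact this ▸ hzf
  · rintro ⟨hzU, hzH⟩
    refine ⟨hzH, ?_⟩
    obtain ⟨y, hy, hzy⟩ := Set.mem_iUnion₂.1 (ht ⟨hzU, X.basicOpen_le H hzH⟩)
    refine hle y ⟨(mem_basicOpen_iff hV (h y) (X.basicOpen_le H hzH)).2 fun hm => ?_, hzy⟩
    exact (mem_basicOpen_iff hV H (X.basicOpen_le H hzH)).1 hzH
      (Ideal.mem_of_dvd _ (Finset.dvd_prod_of_mem h hy) hm)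

/-- An invertible module on `U` has a frame on `U` near a point outside `U` where `U` is cut out by
one equation. -/
theorem exists_frame_near {U V : X.Opens} {N : U.toScheme.Modules} (hN : PicF.IsInvertible N)
    (hV : IsAffineOpen V) (hxV : x ∈ V) (hxU : x ∉ U) {f : Γ(X, V)} (hf : X.basicOpen f = U ⊓ V)
    (hNo : IsNoetherianRing (X.presheaf.stalk x)) (hd : ringKrullDim (X.presheaf.stalk x) ≤ 1) :
    ∃ (h : Γ(X, V)) (O : U.toScheme.Opens) (e : Γ(N, O)),
      x ∈ X.basicOpen h ∧ U.ι ⁻¹ᵁ X.basicOpen h ≤ O ∧ IsFrame e := by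
  have hA : IsAffineOpen (U.ι ⁻¹ᵁ X.basicOpen f) := by
    apply (U.ι.isAffineOpen_iff_of_isOpenImmersion).1
    rw [Scheme.Hom.image_preimage_eq_opensRange_inf, Scheme.Opens.opensRange_ι, hf, ← inf_assoc,
      inf_idem, ← hf]
    exact hV.basicOpen f
  have hfin : ({y : U.toScheme | U.ι y ⤳ x}).Finite :=
    (finite_gens hNo hd).preimage U.ι.isOpenEmbedding.injective.injOn
  obtain ⟨O, e, hO, he⟩ := InvUfdLib.exists_frame_finset hN hA _ hfin
    (fun y hy => by
      show U.ι y ∈ X.basicOpen f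
      rw [hf]
      exact ⟨y.2, hy.mem_open V.2 hxV⟩)
    (fun y _ z hz hyz => U.ι.isOpenEmbedding.injective
      (eq_of_specializes hd (hyz.map U.ι.continuous) hz fun h => hxU (h ▸ z.2)))
  obtain ⟨h, hxh, hle⟩ := exists_basicOpen_inf_le hV hxV f (U.ι ''ᵁ O) fun y hyx hyf => by
    rw [hf] at hyf
    exact ⟨⟨y, hyf.1⟩, hO hyx, rfl⟩
  refine ⟨h, O, e, hxh, fun y hy => ?_, he⟩
  obtain ⟨z, hz, hzy⟩ := hle ⟨hy, by rw [hf]; exact ⟨y.2, X.basicOpen_le h hy⟩⟩
  exact U.ι.isOpenEmbedding.injective hzy ▸ hz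

/-- A point of a discrete closed complement has a neighbourhood meeting it only there. -/
theorem exists_isolating {U : X.Opens} (hdisc : DiscreteTopology ↥((U : Set X)ᶜ)) (hxU : x ∉ U) :
    ∃ W : X.Opens, x ∈ W ∧ ∀ y ∈ W, y ∉ U → y = x := by
  obtain ⟨W, hW, he⟩ := isOpen_induced_iff.1
    (hdisc.eq_bot ▸ trivial : IsOpen ({⟨x, hxU⟩} : Set ↥((U : Set X)ᶜ)))
  refine ⟨⟨W, hW⟩, ?_, fun y hyW hyU => ?_⟩
  · exact (Set.ext_iff.1 he ⟨x, hxU⟩).2 rfl
  · exact congrArg Subtype.val ((Set.ext_iff.1 he ⟨y, hyU⟩).1 hyW)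

end Groth.Agent.VarBase.DimOne
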