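import Groth.Agent.VarBase.DimOne.Projective
import Groth.Agent.S7669
import Groth.Agent.S7642
import Groth.Agent.S1519
import Groth.Agent.InvX.GenLocusPull
import Groth.Agent.AmpleX.FiniteSet
import Groth.Agent.ParLib.AffineDimOne
import Mathlib.RingTheory.KrullDimension.PID
import Mathlib.Algebra.Polynomial.Reverse

/-!
# Open complements of points meeting every one-dimensional component of a projective curve are affine
-/

universe u

open CategoryTheory CategoryTheory.Limits AlgebraicGeometry TopologicalSpace Polynomial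

set_option linter.style.haveILetI false
set_option backward.isDefEq.respectTransparency false
set_option backward.isDefEq.respectTransparency.types false

namespace Groth.Agent.VarBase.DimOne

open Groth.Agent Groth.Agent.AModX Groth.Agent.InvX

variable {k : Type u} [Field k] {Y : Scheme.{u}} (q : Y ⟶ Spec (CommRingCat.of k))

/-- Constants on an open. -/
noncomputable def cst (U : Y.Opens) : k →+* Γ(Y, U) :=
  (resR (le_top : U ≤ ⊤)).comp (ProjUP.toGlobal q)

theorem cst_res {U V : Y.Opens} (h : V ≤ U) (c : k) : resR h (cst q U c) = cst q V c :=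
  resR_resR _ _ _

theorem germ_cst {U : Y.Opens} {y : Y} (hy : y ∈ U) (c : k) :
    Y.presheaf.germ U y hy (cst q U c) = Y.presheaf.germ ⊤ y trivial (ProjUP.toGlobal q c) :=
  InvUfdLib.germ_resR _ _ _

/-- The morphism to the affine line given by a function on an open. -/
noncomputable def evalMap {U : Y.Opens} (g : Γ(Y, U)) : U.toScheme ⟶ Spec (CommRingCat.of k[X]) :=
  U.toSpecΓ ≫ Spec.map (CommRingCat.ofHom (eval₂RingHom (cst q U) g))

theorem evalMap_comp {U : Y.Opens} (g : Γ(Y, U)) :
    evalMap q g ≫ Spec.map (CommRingCat.ofHom (C : k →+* k[X])) = U.ι ≫ q := by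
  have h : CommRingCat.ofHom (C : k →+* k[X]) ≫ CommRingCat.ofHom (eval₂RingHom (cst q U) g) =
      CommRingCat.ofHom (ProjUP.toGlobal q) ≫ Y.presheaf.map (homOfLE (le_top : U ≤ ⊤)).op := by
    ext c
    exact eval₂_C (cst q U) g
  rw [evalMap, Category.assoc, ← Spec.map_comp, h, Spec.map_comp, ← Category.assoc,
    Scheme.Opens.toSpecΓ_SpecMap_presheaf_map_top, Category.assoc]
  congr 1
  have h2 : CommRingCat.ofHom (ProjUP.toGlobal q) =
      (Scheme.ΓSpecIso (CommRingCat.of k)).inv ≫ q.appTop := rfl
  rw [h2, Spec.map_comp, ← Category.assoc, ← Scheme.toSpecΓ_naturality, Category.assoc, ← SpecMap_ΓSpecIso_hom,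
    ← Spec.map_comp, Iso.inv_hom_id, Spec.map_id, Category.comp_id]

/-- A point lying over a closed point of the line is a root of a nonzero polynomial. -/
theorem exists_poly_of_isClosed {U : Y.Opens} (g : Γ(Y, U)) (y : U.toScheme)
    (h : IsClosed ({evalMap q g y} : Set (Spec (CommRingCat.of k[X])))) :
    ∃ P : k[X], P ≠ 0 ∧
      Y.presheaf.germ U y.1 y.2 (eval₂ (cst q U) g P) ∈ IsLocalRing.maximalIdeal (Y.presheaf.stalk y.1) := by
  have hpt : U.toSpecΓ y = Spec.map (Y.presheaf.germ U y.1 y.2) (IsLocalRing.closedPoint _) := by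
    rw [← Scheme.Opens.fromSpecStalkOfMem_toSpecΓ U y.1 y.2, Scheme.Hom.comp_apply]
    congr 1
    apply U.ι.isOpenEmbedding.injective
    rw [← Scheme.Hom.comp_apply, Scheme.Opens.fromSpecStalkOfMem_ι]
    exact (Scheme.fromSpecStalk_closedPoint).symm
  let s : PrimeSpectrum k[X] := evalMap q g y
  have hs : s.asIdeal = (IsLocalRing.maximalIdeal (Y.presheaf.stalk y.1)).comap
      ((Y.presheaf.germ U y.1 y.2).hom.comp (eval₂RingHom (cst q U) g)) := by
    show (Spec.map (CommRingCat.ofHom (eval₂RingHom (cst q U) g)) (U.toSpecΓ y) : PrimeSpectrum k[X]).asIdeal = _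
    rw [hpt]
    rfl
  have hmax : s.asIdeal.IsMaximal := (PrimeSpectrum.isClosed_singleton_iff_isMaximal s).1 h
  have hbot : s.asIdeal ≠ ⊥ := fun he => Polynomial.not_isField k (Ring.isField_iff_maximal_bot.2 (he ▸ hmax))
  obtain ⟨P, hP, hP0⟩ := Submodule.exists_mem_ne_zero_of_ne_bot hbot
  rw [hs] at hP
  exact ⟨P, hP0, hP⟩

/-- A function with a pole on a branch is transcendental there. -/
theorem not_isClosed_evalMap {U T : Y.Opens} (g : Γ(Y, U)) (σ : Γ(Y, T))
    (hgσ : resR (inf_le_left : U ⊓ T ≤ U) g * resR inf_le_right σ = 1) (η : U.toScheme) {b : Y}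
    (hb : b ∈ T) (hσ : b ∉ Y.basicOpen σ) (hηb : η.1 ⤳ b) :
    ¬ IsClosed ({evalMap q g η} : Set (Spec (CommRingCat.of k[X]))) := by
  intro hcl
  obtain ⟨P, hP0, hP⟩ := exists_poly_of_isClosed q g η hcl
  have hηT : η.1 ∈ T := hηb.mem_open T.2 hb
  let ρ := (Y.residue η.1).hom
  let c : k →+* Y.residueField η.1 :=
    ρ.comp ((Y.presheaf.germ ⊤ η.1 trivial).hom.comp (ProjUP.toGlobal q))
  let G : Y.residueField η.1 := ρ (Y.presheaf.germ U η.1 η.2 g)
  have hPG : eval₂ c G P = 0 := by
    have h := (residue_eq_zero_iff _).2 hP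
    rw [hom_eval₂, hom_eval₂] at h
    have hc : ρ.comp ((Y.presheaf.germ U η.1 η.2).hom.comp (cst q U)) = c :=
      RingHom.ext fun a => congrArg ρ (germ_cst q η.2 a)
    rw [← RingHom.comp_assoc] at hc
    rw [← RingHom.comp_assoc] at h
    rwa [hc] at h
  have hGσ : G * toResidue hηb (Y.presheaf.germ T b hb σ) = 1 := by
    rw [toResidue_germ]
    have h := congrArg (fun r => ρ (Y.presheaf.germ (U ⊓ T) η.1 ⟨η.2, hηT⟩ r)) hgσ
    simp only [map_mul, map_one, InvUfdLib.germ_resR] at h
    exact h
  let : Invertible G := ⟨toResidue hηb (Y.presheaf.germ T b hb σ), mul_comm G _ ▸ hGσ, hGσ⟩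
  have hrev : eval₂ c (toResidue hηb (Y.presheaf.germ T b hb σ)) P.reverse = 0 :=
    (eval₂_reverse_eq_zero_iff c G P).2 hPG
  let cb : k →+* Y.presheaf.stalk b := (Y.presheaf.germ ⊤ b trivial).hom.comp (ProjUP.toGlobal q)
  have hcb : (toResidue hηb).comp cb = c := RingHom.ext fun a => toResidue_germ hηb ⊤ trivial _
  rw [← hcb, ← hom_eval₂, toResidue_eq_zero_iff] at hrev
  have hm := IsLocalRing.le_maximalIdeal (genPrime hηb).isPrime.ne_top hrev
  have hσm : IsLocalRing.residue (Y.presheaf.stalk b) (Y.presheaf.germ T b hb σ) = 0 :=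
    (IsLocalRing.residue_eq_zero_iff _).2 fun hu => hσ ((Scheme.mem_basicOpen Y σ b hb).2 hu)
  have h0 := (IsLocalRing.residue_eq_zero_iff _).2 hm
  rw [hom_eval₂, hσm, eval₂_at_zero, coeff_zero_reverse, RingHom.comp_apply] at h0
  exact ((IsUnit.mk0 _ (leadingCoeff_ne_zero.2 hP0)).map cb).map
    (IsLocalRing.residue (Y.presheaf.stalk b)) |>.ne_zero h0

variable [IsProper q]

include q

/-- **Affineness.** On a proper scheme of dimension at most one, a dense open with finite boundary
meeting the closure of each of its non-closed points is affine. -/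
theorem isAffineOpen_of_boundary (hdim : topologicalKrullDim Y ≤ 1) (U : Y.Opens)
    (hd : Dense (U : Set Y)) (hfin : ((U : Set Y)ᶜ).Finite)
    (hcl : ∀ b, b ∉ U → IsClosed ({b} : Set Y))
    (hbd : ∀ η : U.toScheme, ¬ IsClosed ({η} : Set U.toScheme) → ∃ b, b ∉ U ∧ η.1 ⤳ b) :
    IsAffineOpen U := by
  letI : Y.Over (Spec (CommRingCat.of k)) := ⟨q⟩
  haveI : IsProper (Y ↘ Spec (CommRingCat.of k)) := ‹IsProper q›
  haveI := isNoetherian_of_field q
  haveI : Y.IsSeparated := ⟨by rw [← Limits.terminal.comp_from q]; infer_instance⟩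
  have hst := fun y : Y => ringKrullDim_stalk_le hdim y
  have hdisc : DiscreteTopology ↥((U : Set Y)ᶜ) := discreteTopology_of_finite hfin fun y hy z _ hyz =>
    ((hcl y hy).closure_eq ▸ specializes_iff_mem_closure.1 hyz : z ∈ ({y} : Set Y)).symm
  obtain ⟨⟨L, s, hL, hs⟩, -⟩ := S7669.result Y U hdisc fun y _ => ⟨inferInstance, hst y⟩
  -- `L` is ample
  have hamp : CohB1.IsAmple L := by
    refine (S7642.result k Y hdim L hL).2 fun C hC hC1 => ?_
    have hI : (Y.irreducibleComponentIdeal C hC).radical =
        Scheme.IdealSheafData.vanishingIdeal ⟨C, isClosed_of_mem_irreducibleComponents C hC⟩ := by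
      rw [← Scheme.IdealSheafData.vanishingIdeal_support]
      exact congrArg Scheme.IdealSheafData.vanishingIdeal (Closeds.ext rfl)
    rw [hI]
    let W : Closeds Y := ⟨C, isClosed_of_mem_irreducibleComponents C hC⟩
    let I := Scheme.IdealSheafData.vanishingIdeal W
    haveI : IsIntegral I.subscheme := S7642.isIntegral_vanishing W hC.1
    letI : I.subscheme.Over (Spec (CommRingCat.of k)) := ⟨I.subschemeι ≫ q⟩
    haveI : IsProper (I.subscheme ↘ Spec (CommRingCat.of k)) :=
      inferInstanceAs (IsProper (I.subschemeι ≫ q))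
    have hrange : Set.range I.subschemeι = C :=
      I.range_subschemeι.trans (Scheme.IdealSheafData.coe_support_vanishingIdeal _)
    have hdI : topologicalKrullDim I.subscheme = 1 := by
      rw [← hC1, ← dim_range (X := Y) I.subschemeι]
      exact congrArg (fun T : Set Y => topologicalKrullDim ↥T) hrange
    -- the generic point lies in `U` and is not closed
    obtain ⟨ξ, hξ⟩ := QuasiSober.sober hC.1 (isClosed_of_mem_irreducibleComponents C hC)
    have hmax : ∀ y, y ⤳ ξ → y = ξ := fun y hy => by
      have hsub : C ⊆ closure {y} :=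
        hξ.def ▸ (isClosed_closure.closure_subset_iff.2
          (Set.singleton_subset_iff.2 (specializes_iff_mem_closure.1 hy)))
      have : closure {y} = C := Set.Subset.antisymm (hC.2 isIrreducible_singleton.closure hsub) hsub
      exact ((isGenericPoint_iff_specializes.2 fun z => by rw [← this, specializes_iff_mem_closure]) :
        IsGenericPoint y C).eq hξ
    have hξU : ξ ∈ U := by
      by_contra h
      have hG : IsClosed (⋃ C' ∈ irreducibleComponents Y \ {C}, C') :=
        ((finite_irreducibleComponents_of_isNoetherian (X := Y)).sdiff).isClosed_biUnion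
          fun C' hC' => isClosed_of_mem_irreducibleComponents C' hC'.1
      have hξG : ξ ∉ ⋃ C' ∈ irreducibleComponents Y \ {C}, C' := fun hm => by
        obtain ⟨C', ⟨hC', hne⟩, hξC'⟩ := Set.mem_iUnion₂.1 hm
        have hsub : C ⊆ C' := hξ.def ▸ (isClosed_of_mem_irreducibleComponents C' hC').closure_subset_iff.2
          (Set.singleton_subset_iff.2 hξC')
        exact hne (Set.Subset.antisymm (hC.2 hC'.1 hsub) hsub)
      obtain ⟨z, hzG, hzU⟩ := hd.inter_open_nonempty _ hG.isOpen_compl ⟨ξ, hξG⟩
      have hzC : z ∈ C := by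
        by_contra hz
        exact hzG (Set.mem_biUnion ⟨irreducibleComponent_mem_irreducibleComponents z, fun e => hz (by
          rw [← Set.mem_singleton_iff.1 e]; exact mem_irreducibleComponent)⟩ mem_irreducibleComponent)
      exact h ((hξ.specializes hzC).mem_open U.2 hzU)
    obtain ⟨z, hzC, hzξ⟩ : ∃ z ∈ C, z ≠ ξ := by
      by_contra! hall
      have hsub : Subsingleton ↥C := ⟨fun a b => Subtype.ext ((hall a a.2).trans (hall b b.2).symm)⟩
      have h0 : topologicalKrullDim ↥C ≤ 0 := topologicalKrullDim_zero_of_discreteTopology ↥C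
      rw [hC1] at h0
      exact absurd h0 (by norm_num)
    obtain ⟨b, hbU, hξb⟩ : ∃ b, b ∉ U ∧ ξ ⤳ b := by
      by_cases hzU : z ∈ U
      · refine hbd ⟨ξ, hξU⟩ fun hc => hzξ ?_
        have h1 : (⟨ξ, hξU⟩ : U.toScheme) ⤳ ⟨z, hzU⟩ :=
          U.ι.isOpenEmbedding.isInducing.specializes_iff.1 (hξ.specializes hzC)
        exact congrArg Subtype.val (hc.closure_eq ▸ specializes_iff_mem_closure.1 h1 :
          (⟨z, hzU⟩ : U.toScheme) ∈ ({⟨ξ, hξU⟩} : Set U.toScheme))
      · exact ⟨z, hzU, hξ.specializes hzC⟩
    have hbC : b ∈ C := hξ.def ▸ specializes_iff_mem_closure.1 hξb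
    obtain ⟨e⟩ := PicClLib.nonempty_pullback_structureModule I.subschemeι
    let s' := e.inv ≫ (Scheme.Modules.pullback I.subschemeι).map s
    have hs' : CohB1.genLocus _ s' = I.subschemeι ⁻¹ᵁ U := by
      rw [← hs]
      exact genLocus_pullback I.subschemeι hL s e.symm
    obtain ⟨x, hx⟩ : b ∈ Set.range I.subschemeι := hrange.symm ▸ hbC
    obtain ⟨x₁, hx₁⟩ : ξ ∈ Set.range I.subschemeι := hrange.symm ▸ hξ.mem
    refine S1519.result k I.subscheme hdI _ (PicClLib.isInvertible_pullback I.subschemeι hL) s' ?_ x ?_
    · intro h0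
      have h1 : x₁ ∈ CohB1.genLocus _ s' := by
        rw [hs']
        show I.subschemeι x₁ ∈ U
        rw [hx₁]
        exact hξU
      obtain ⟨O, hxO, hO⟩ := mem_genLocus h1
      rw [h0, show one (0 : Coh.structureModule I.subscheme ⟶
        (Scheme.Modules.pullback I.subschemeι).obj L) = 0 from rfl, map_zero] at hO
      have h10 : (1 : Γ(I.subscheme, O)) = 0 := hO.coord_unique le_rfl (by rw [res_self, smul_zero, smul_zero])
      exact one_ne_zero (by simpa using congrArg (I.subscheme.presheaf.germ O x₁ hxO) h10 :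
        (1 : I.subscheme.presheaf.stalk x₁) = 0)
    · rw [hs']
      show I.subschemeι x ∉ U
      rw [hx]
      exact hbU
  -- a function with poles on all branches
  obtain ⟨n, t, hBt, -, -⟩ := AmpleX.exists_finite_nhd hamp hfin (U := (⊤ : Y.Opens)) fun _ _ => trivial
  have hLn := isInvertible_tensorPow hL (n + 1)
  let T := CohB1.genLocus _ t
  let σ₀ := powHom s (n + 1)
  have hσ₀ : CohB1.genLocus _ σ₀ = U := (genLocus_powHom hL s n).trans hs
  have hfU : IsFrame (res (CohB1.tensorPow L (n + 1)) (le_top : U ≤ ⊤) (one σ₀)) := by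
    have h := AmpleX.res_genLocus_frame σ₀
    rwa [hσ₀] at h
  have hfT : IsFrame (res (CohB1.tensorPow L (n + 1)) (le_top : T ≤ ⊤) (one t)) := AmpleX.res_genLocus_frame t
  obtain ⟨g, hg⟩ := hfU.exists_coord le_rfl (res (CohB1.tensorPow L (n + 1)) (le_top : U ≤ ⊤) (one t))
  obtain ⟨σ, hσ⟩ := hfT.exists_coord le_rfl (res (CohB1.tensorPow L (n + 1)) (le_top : T ≤ ⊤) (one σ₀))
  rw [res_self] at hg hσ
  have hgσ : resR (inf_le_left : U ⊓ T ≤ U) g * resR inf_le_right σ = 1 := by
    refine hfU.coord_unique (inf_le_left : U ⊓ T ≤ U) ?_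
    have h1 := congrArg (res _ (inf_le_left : U ⊓ T ≤ U)) hg
    have h2 := congrArg (res _ (inf_le_right : U ⊓ T ≤ T)) hσ
    simp only [res_smul, res_res] at h1 h2 ⊢
    rw [one_smul, mul_comm, mul_smul, ← h1, ← h2]
  have hσb : ∀ b, b ∉ U → b ∉ Y.basicOpen σ := fun b hb hm => by
    rw [← genLocus_inf σ₀ hfT hσ, hσ₀] at hm
    exact hb hm.1
  -- the morphism to the line is quasi-finite
  haveI : IsNoetherian U.toScheme := isNoetherian_of_field (U.ι ≫ q)
  let f := evalMap q g
  let sp := Spec.map (CommRingCat.ofHom (C : k →+* k[X]))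
  have hfsp : f ≫ sp = U.ι ≫ q := evalMap_comp q g
  haveI : LocallyOfFiniteType (f ≫ sp) := hfsp ▸ inferInstance
  haveI : LocallyOfFiniteType f := locallyOfFiniteType_of_comp f sp
  haveI : LocallyOfFiniteType sp :=
    (HasRingHomProperty.Spec_iff (P := @LocallyOfFiniteType)).2
      ((RingHom.finiteType_algebraMap (A := k) (B := k[X])).2 inferInstance)
  have hnc : ∀ η : U.toScheme, ¬ IsClosed ({η} : Set U.toScheme) →
      ¬ IsClosed ({f η} : Set (Spec (CommRingCat.of k[X]))) := fun η hη => by
    obtain ⟨b, hbU, hηb⟩ := hbd η hη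
    exact not_isClosed_evalMap q g σ hgσ η (hBt hbU) (hσb b hbU) hηb
  have hclosed : ∀ z : U.toScheme, IsClosed ({z} : Set U.toScheme) →
      IsClosed ({f z} : Set (Spec (CommRingCat.of k[X]))) := fun z hz => by
    rw [VarDim.closedPoint_iff_deg_eq_zero sp]
    rw [VarDim.closedPoint_iff_deg_eq_zero (U.ι ≫ q)] at hz
    have := VarDim.deg_map_le f sp hfsp z
    omega
  have hfinNC : ({z : U.toScheme | ¬ IsClosed ({z} : Set U.toScheme)}).Finite := by
    have hG := (finite_irreducibleComponents_of_isNoetherian (X := U.toScheme)).to_subtype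
    refine (Set.finite_range fun C : irreducibleComponents U.toScheme => C.2.1.genericPoint).subset
      fun z hz => ?_
    have hgen := isIrreducible_irreducibleComponent.isGenericPoint_genericPoint
      (isClosed_irreducibleComponent (x := z))
    refine ⟨⟨irreducibleComponent z, irreducibleComponent_mem_irreducibleComponents z⟩, ?_⟩
    by_contra hne
    exact hz (isClosed_singleton_of_specializes_ne
      ((topologicalKrullDim_subspace_le _ _).trans hdim) (hgen.specializes mem_irreducibleComponent) hne)
  have hfib : ∀ s, (f ⁻¹' {s}).Finite := fun s => by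
    by_cases hsc : IsClosed ({s} : Set (Spec (CommRingCat.of k[X])))
    · exact finite_of_isClosed_of_closed_points (hsc.preimage f.continuous) fun z hz =>
        by_contra fun hzc => hnc z hzc (by rw [show f z = s from hz]; exact hsc)
    · refine hfinNC.subset fun z (hz : f z = s) hzc => hsc ?_
      rw [← hz]
      exact hclosed z hzc
  haveI : QuasiCompact f := by
    haveI : QuasiCompact (f ≫ sp) := hfsp ▸ inferInstance
    exact QuasiCompact.of_comp f sp
  haveI : IsSeparated f := by
    haveI : IsSeparated (f ≫ sp) := hfsp ▸ inferInstance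
    exact IsSeparated.of_comp f sp
  haveI : LocallyQuasiFinite f := LocallyQuasiFinite.of_finite_preimage_singleton f hfib
  haveI : IsNoetherianRing (CommRingCat.of k[X]) := inferInstanceAs (IsNoetherianRing k[X])
  have hS : topologicalKrullDim (Spec (CommRingCat.of k[X])) ≤ 1 :=
    (PrimeSpectrum.topologicalKrullDim_eq_ringKrullDim (R := k[X])).trans_le
      (IsPrincipalIdealRing.ringKrullDim_eq_one k[X] (Polynomial.not_isField k)).le
  haveI : IsAffineHom f := ParLib.isAffineHom_of_finite_fibres f (𝟙 _) hS fun s =>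
    IsFinite.of_locallyQuasiFinite _
  exact isAffine_of_isAffineHom f

end Groth.Agent.VarBase.DimOne

namespace Groth.Agent.VarBase.DimOne

open Groth.Agent

/-- Without proper components of dimension one a separated scheme of dimension at most one is affine. -/
theorem isAffine_of_no_proper {k : Type u} [Field k] {X : Scheme.{u}} [IsNoetherian X] (p : X ⟶ Spec (CommRingCat.of k))
    [LocallyOfFiniteType p] [QuasiCompact p] [IsSeparated p] (hdim : topologicalKrullDim X ≤ 1)
    (h : ∀ (C : Set X) (hC : C ∈ irreducibleComponents (X : Type u)), topologicalKrullDim C = 1 →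
      ¬ IsProper ((X.irreducibleComponentIdeal C hC).radical.subschemeι ≫ p)) : IsAffine X := by
  obtain ⟨d, Y, c, j, hc, hj, hjp, hd, -, hfin, hcl⟩ := exists_completion p hdim
  haveI := hc
  haveI := hj
  haveI := PnCoh.Chow.isProper_toSpec d k
  let q := c ≫ CohB1.ProjSpace.toSpec d k
  haveI : IsProper q := inferInstance
  let U := j.opensRange
  have hstalk : topologicalKrullDim Y ≤ 1 := by
    rw [VarDim.topologicalKrullDim_eq_iSup_deg q]
    refine iSup_le fun y => ?_
    by_cases hy : y ∈ Set.range j.base
    · obtain ⟨x, rfl⟩ := hy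
      haveI : LocallyOfFiniteType (j ≫ q) := inferInstance
      rw [← VarDim.deg_comp q j x]
      refine le_trans ?_ hdim
      rw [VarDim.topologicalKrullDim_eq_iSup_deg (j ≫ q)]
      exact le_iSup (fun x : X => ((VarDim.deg (j ≫ q) x : ℕ∞) : WithBot ℕ∞)) x
    · rw [(VarDim.closedPoint_iff_deg_eq_zero q y).1 (hcl y hy)]
      exact zero_le_one
  have key : IsAffineOpen U := by
    refine isAffineOpen_of_boundary q hstalk U hd hfin hcl fun η hη => ?_
    obtain ⟨x, hx⟩ : η.1 ∈ Set.range j.base := η.2
    by_contra! hall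
    -- the component of `x` is then proper
    have hxcl : ¬ IsClosed ({x} : Set X) := fun hxc => hη <| by
      have h' := (j.isoOpensRange.hom.homeomorph.isClosed_image (s := {x})).2 hxc
      rw [Set.image_singleton] at h'
      have : j.isoOpensRange.hom.homeomorph x = η := Subtype.ext <| by
        show U.ι (j.isoOpensRange.hom x) = η.1
        rw [← Scheme.Hom.comp_apply, Scheme.Hom.isoOpensRange_hom_ι]
        exact hx
      rwa [this] at h'
    let C := irreducibleComponent x
    have hC : C ∈ irreducibleComponents (X : Type u) := irreducibleComponent_mem_irreducibleComponents x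
    have hgen := isIrreducible_irreducibleComponent.isGenericPoint_genericPoint
      (isClosed_irreducibleComponent (x := x))
    have hxgen : closure ({x} : Set X) = C := by
      have : isIrreducible_irreducibleComponent.genericPoint = x := by_contra fun hne =>
        hxcl (isClosed_singleton_of_specializes_ne hdim (hgen.specializes mem_irreducibleComponent) hne)
      rw [this] at hgen
      exact hgen
    have hC1 : topologicalKrullDim C = 1 := by
      refine le_antisymm ((topologicalKrullDim_subspace_le _ _).trans hdim) ?_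
      obtain ⟨z, hzC, hzx⟩ : ∃ z ∈ C, z ≠ x := by
        by_contra! hh
        refine hxcl ?_
        rw [show ({x} : Set X) = C from Set.Subset.antisymm (Set.singleton_subset_iff.2 mem_irreducibleComponent)
          fun z hz => hh z hz]
        exact isClosed_irreducibleComponent
      have hxz : x ⤳ z := specializes_iff_mem_closure.2 (hxgen ▸ hzC)
      let a : IrreducibleCloseds ↥C :=
        ⟨closure {⟨z, hzC⟩}, isIrreducible_singleton.closure, isClosed_closure⟩
      let b : IrreducibleCloseds ↥C :=
        ⟨closure {⟨x, mem_irreducibleComponent⟩}, isIrreducible_singleton.closure, isClosed_closure⟩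
      have hle : a ≤ b := by
        show closure _ ⊆ closure _
        exact ((subtype_specializes_iff ⟨x, mem_irreducibleComponent⟩ ⟨z, hzC⟩).2 hxz).closure_subset
      have hlt : a < b := lt_of_le_of_ne hle fun e => hzx <| by
        have hz : (⟨z, hzC⟩ : ↥C) ⤳ ⟨x, mem_irreducibleComponent⟩ := specializes_iff_mem_closure.2 <| by
          rw [show closure {(⟨z, hzC⟩ : ↥C)} = closure {⟨x, mem_irreducibleComponent⟩} from
            congrArg IrreducibleCloseds.carrier e]
          exact subset_closure rfl
        exact (((subtype_specializes_iff _ _).1 hz).antisymm hxz).eq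
      have := Order.LTSeries.length_le_krullDim ((RelSeries.singleton _ a).snoc b (by simpa using hlt))
      simpa [topologicalKrullDim] using this
    refine h C hC hC1 ?_
    let I := (X.irreducibleComponentIdeal C hC).radical
    have hI : I = Scheme.IdealSheafData.vanishingIdeal ⟨C, isClosed_of_mem_irreducibleComponents C hC⟩ := by
      show (X.irreducibleComponentIdeal C hC).radical = _
      rw [← Scheme.IdealSheafData.vanishingIdeal_support]
      exact congrArg Scheme.IdealSheafData.vanishingIdeal (Closeds.ext rfl)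
    have hr : Set.range I.subschemeι = C := by
      rw [hI]
      exact (Scheme.IdealSheafData.range_subschemeι _).trans (Scheme.IdealSheafData.coe_support_vanishingIdeal _)
    haveI : IsPreimmersion (I.subschemeι ≫ j) := inferInstance
    haveI : IsClosedImmersion (I.subschemeι ≫ j) := by
      refine IsClosedImmersion.of_isPreimmersion _ ?_
      have hrange : Set.range (I.subschemeι ≫ j) = j.base '' C := by
        rw [← hr, ← Set.range_comp]
        rfl
      rw [hrange, ← closure_subset_iff_isClosed]
      intro y hy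
      have hy' : η.1 ⤳ y := by
        rw [specializes_iff_mem_closure, ← hx]
        refine closure_minimal ?_ isClosed_closure hy
        rw [← hxgen]
        exact (image_closure_subset_closure_image j.continuous).trans (by rw [Set.image_singleton])
      obtain ⟨z, rfl⟩ : y ∈ Set.range j.base := by_contra fun hyU => hall y hyU hy'
      refine ⟨z, ?_, rfl⟩
      rw [← hxgen, ← specializes_iff_mem_closure, ← j.isOpenEmbedding.isInducing.specializes_iff]
      exact (specializes_of_eq hx).trans hy'
    have : I.subschemeι ≫ p = (I.subschemeι ≫ j) ≫ q := by rw [Category.assoc, hjp]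
    rw [this]
    infer_instance
  haveI : IsAffine j.opensRange.toScheme := key
  exact IsAffine.of_isIso j.isoOpensRange.hom

end Groth.Agent.VarBase.DimOne
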