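import Groth.Agent.H23.CocycleMod
import Groth.Agent.VarBase.DimOne.Pull
import Groth.Agent.VarBase.DimOne.Ample

/-!
# Lifting invertible modules to a Noetherian space of dimension at most one
-/

universe u

open CategoryTheory CategoryTheory.Limits AlgebraicGeometry TopologicalSpace

set_option backward.isDefEq.respectTransparency false
set_option backward.isDefEq.respectTransparency.types false

namespace Groth.Agent.VarBase.DimOne

open Groth.Agent.AModX Groth.Agent.InvX Groth.Agent.H23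

variable {X Z : Scheme.{u}}

theorem eq_of_specializes_genericPoints {η : X} (hη : η ∈ genericPoints X) {y : X} (h : y ⤳ η) :
    y = η := by
  have hsub : closure {η} ⊆ closure {y} :=
    isClosed_closure.closure_subset_iff.2 (Set.singleton_subset_iff.2 (specializes_iff_mem_closure.1 h))
  have he : closure {y} = closure {η} :=
    Set.Subset.antisymm (hη.2 isIrreducible_singleton.closure hsub) hsub
  exact IsGenericPoint.eq he (isGenericPoint_closure (x := η))

theorem exists_mem_genericPoints (y : X) : ∃ η ∈ genericPoints X, η ⤳ y := by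
  obtain ⟨η, hη⟩ := QuasiSober.sober isIrreducible_irreducibleComponent
    (isClosed_irreducibleComponent (x := y))
  exact ⟨η, show closure {η} ∈ _ from hη.def.symm ▸ irreducibleComponent_mem_irreducibleComponents y,
    hη.specializes mem_irreducibleComponent⟩

theorem mem_of_dense {V : X.Opens} (hV : Dense (V : Set X)) [NoetherianSpace X] {η : X}
    (hη : η ∈ genericPoints X) : η ∈ V := by
  have hfin := genericPoints.finite (α := X) NoetherianSpace.finite_irreducibleComponents
  have hcl : IsClosed (⋃ η' ∈ genericPoints X \ {η}, closure ({η'} : Set X)) :=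
    (hfin.subset Set.sdiff_subset).isClosed_biUnion fun _ _ => isClosed_closure
  obtain ⟨z, hz, hzV⟩ := hV.inter_open_nonempty _ hcl.isOpen_compl ⟨η, fun h => by
    obtain ⟨η', hη', h⟩ := Set.mem_iUnion₂.1 h
    exact hη'.2 (eq_of_specializes_genericPoints hη (specializes_iff_mem_closure.2 h))⟩
  obtain ⟨η'', hη'', h⟩ := exists_mem_genericPoints z
  obtain rfl : η'' = η := by_contra fun hne =>
    hz (Set.mem_biUnion ⟨hη'', hne⟩ (specializes_iff_mem_closure.1 h))
  exact h.mem_open V.2 hzV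

/-- Units lift at a point whose fibre is at most a point with surjective map of local rings. -/
theorem exists_unit_lift (f : Z ⟶ X) (hf : IsClosedMap f) {η : X}
    (hsub : ∀ z z', f z = η → f z' = η → z = z')
    (hsurj : ∀ z, f z = η → Function.Surjective (f.stalkMap z))
    (W : X.Opens) (hη : η ∈ W) (c : Γ(Z, f ⁻¹ᵁ W)) (hc : IsUnit c) :
    ∃ (W' : X.Opens) (h : W' ≤ W) (u : Γ(X, W')),
      η ∈ W' ∧ IsUnit u ∧ f.app W' u = resR (f.preimage_mono h) c := by
  by_cases hr : η ∈ Set.range f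
  · obtain ⟨z, rfl⟩ := hr
    obtain ⟨a, ha⟩ := hsurj z rfl (Z.presheaf.germ (f ⁻¹ᵁ W) z hη c)
    obtain ⟨W₁, hW₁, hm₁, a₁, rfl⟩ := X.presheaf.exists_le_germ_eq a hη
    have hu : IsUnit (X.presheaf.germ W₁ (f z) hm₁ a₁) :=
      (isUnit_map_iff (f.stalkMap z).hom _).1 (by rw [show (f.stalkMap z).hom _ = _ from ha]; exact hc.map _)
    obtain ⟨W₂, i₂, hm₂, hu₂⟩ := RingedSpace.isUnit_res_of_isUnit_germ X.toRingedSpace W₁ a₁ _ hm₁ hu
    rw [Scheme.Hom.germ_stalkMap_apply] at ha
    obtain ⟨O, hzO, iO, iO', heq⟩ := Z.presheaf.germ_eq z _ _ _ _ ha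
    refine ⟨W₂ ⊓ ⟨(f '' (O : Set Z)ᶜ)ᶜ, (hf _ O.2.isClosed_compl).isOpen_compl⟩,
      inf_le_left.trans (i₂.le.trans hW₁), resR (inf_le_left.trans i₂.le) a₁, ⟨hm₂, ?_⟩, ?_, ?_⟩
    · rintro ⟨z', hz', he⟩
      exact hz' (hsub z z' rfl he ▸ hzO)
    · rw [show resR (inf_le_left.trans i₂.le) a₁ = resR inf_le_left (resR i₂.le a₁) from
        (resR_resR _ _ _).symm]
      exact hu₂.map _
    · have hle : f ⁻¹ᵁ (W₂ ⊓ ⟨(f '' (O : Set Z)ᶜ)ᶜ, (hf _ O.2.isClosed_compl).isOpen_compl⟩) ≤ O :=
        fun w hw => not_not.1 fun h => hw.2 ⟨w, h, rfl⟩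
      have h1 : resR hle (resR iO.le (f.app W₁ a₁)) = resR hle (resR iO'.le c) := congrArg _ heq
      rw [resR_resR, resR_resR] at h1
      exact (ConcreteCategory.congr_hom (f.naturality (homOfLE (inf_le_left.trans i₂.le)).op) a₁).trans h1
  · refine ⟨W ⊓ ⟨(Set.range f)ᶜ, hf.isClosed_range.isOpen_compl⟩, inf_le_left, 1, ⟨hη, hr⟩, isUnit_one,
      eq_of_locally (M := Coh.structureModule Z) _ _ fun w hw => absurd ⟨w, rfl⟩ hw.2⟩

/-- An invertible module with frames over a cover of the target descends, when units lift around the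
generic points. -/
theorem exists_lift [NoetherianSpace X] (hdim : topologicalKrullDim X ≤ 1) (f : Z ⟶ X) {L : Z.Modules}
    (hframe : ∀ x, ∃ W : X.Opens, x ∈ W ∧ ∃ e : Γ(L, f ⁻¹ᵁ W), IsFrame e)
    (hlift : ∀ η ∈ genericPoints X, ∀ W : X.Opens, η ∈ W → ∀ c : Γ(Z, f ⁻¹ᵁ W), IsUnit c →
      ∃ (W' : X.Opens) (h : W' ≤ W) (u : Γ(X, W')),
        η ∈ W' ∧ IsUnit u ∧ f.app W' u = resR (f.preimage_mono h) c) :
    ∃ L' : X.Modules, PicF.IsInvertible L' ∧ Nonempty ((Scheme.Modules.pullback f).obj L' ≅ L) := by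
  classical
  let G := ↥(genericPoints X)
  haveI : Finite G := (genericPoints.finite NoetherianSpace.finite_irreducibleComponents).to_subtype
  choose Wf hWf ef hef using hframe
  -- disjoint neighbourhoods of the generic points
  let O : G → X.Opens := fun η => Wf η.1 ⊓ ⟨(⋃ η' ∈ {η' : G | η' ≠ η}, closure ({η'.1} : Set X))ᶜ,
    ((Set.toFinite _).isClosed_biUnion fun _ _ => isClosed_closure).isOpen_compl⟩
  have hηO : ∀ η, η.1 ∈ O η := fun η => ⟨hWf _, fun h => by
    obtain ⟨η', hne, h⟩ := Set.mem_iUnion₂.1 h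
    exact hne (Subtype.ext (eq_of_specializes_genericPoints η.2 (specializes_iff_mem_closure.2 h)))⟩
  have huniq : ∀ (η η' : G) (y : X), y ∈ O η → η'.1 ⤳ y → η' = η := fun η η' y hy h =>
    by_contra fun hne => hy.2 (Set.mem_biUnion hne (specializes_iff_mem_closure.1 h))
  have hdisj : ∀ (η η' : G) (y : X), y ∈ O η → y ∈ O η' → η = η' := fun η η' y h h' => by
    obtain ⟨η'', hη'', hs⟩ := exists_mem_genericPoints y
    rw [← huniq η ⟨η'', hη''⟩ y h hs, huniq η' ⟨η'', hη''⟩ y h' hs]
  let U : X.Opens := ⨆ η, O η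
  have hclp : ∀ y : X, y ∉ genericPoints X → IsClosed ({y} : Set X) := fun y hy => by
    obtain ⟨η, hη, h⟩ := exists_mem_genericPoints y
    exact isClosed_singleton_of_specializes_ne hdim h fun e => hy (e ▸ hη)
  have hUc : ∀ y, y ∉ U → IsClosed ({y} : Set X) := fun y hy => hclp y fun h =>
    hy (Opens.mem_iSup.2 ⟨⟨y, h⟩, hηO ⟨y, h⟩⟩)
  have hfinU : ((U : Set X)ᶜ).Finite := finite_of_isClosed_of_closed_points U.2.isClosed_compl hUc
  -- the frame upstairs over `U`
  let s : ∀ η : G, Γ(L, f ⁻¹ᵁ O η) := fun η => res L (f.preimage_mono inf_le_left) (ef η.1)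
  obtain ⟨S, hS, -⟩ := existsUnique_glue (M := L) (V := f ⁻¹ᵁ U) (fun η : G => f ⁻¹ᵁ O η)
    (fun η => f.preimage_mono (le_iSup O η)) (fun p hp => show ∃ η, f p ∈ O η from Opens.mem_iSup.1 hp) s fun η η' => by
      by_cases h : η = η'
      · subst h; rfl
      · exact eq_of_locally _ _ fun p hp => absurd (hdisj η η' _ hp.1 hp.2) h
  have hSf : IsFrame S := InvUfdLib.isFrame_of_cover (fun η : G => f ⁻¹ᵁ O η)
    (fun η => f.preimage_mono (le_iSup O η)) (fun p hp => show ∃ η, f p ∈ O η from Opens.mem_iSup.1 hp) S fun η => by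
      rw [hS η]; exact (hef η.1).res _
  -- local lifts near the generic points
  have hloc : ∀ (y : X) (η : G), ∃ (O' : X.Opens) (h : O' ≤ Wf y ⊓ O η) (u : Γ(X, O')), IsUnit u ∧
      (η.1 ∈ Wf y → η.1 ∈ O') ∧
      res L (f.preimage_mono (h.trans inf_le_left)) (ef y) =
        f.app O' u • res L (f.preimage_mono (h.trans inf_le_right)) (s η) := fun y η => by
    by_cases hη : η.1 ∈ Wf y
    · obtain ⟨c, hc, hce⟩ := InvUfdLib.exists_unit_of_frames
        ((hef y).res (f.preimage_mono (inf_le_left : Wf y ⊓ O η ≤ Wf y)))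
        (IsFrame.res (e := s η) ((hef η.1).res _) (f.preimage_mono (inf_le_right : Wf y ⊓ O η ≤ O η)))
      obtain ⟨O', h, u, hηO', hu, hue⟩ := hlift η.1 η.2 (Wf y ⊓ O η) ⟨hη, hηO η⟩ c hc
      refine ⟨O', h, u, hu, fun _ => hηO', ?_⟩
      have h2 := congrArg (res L (f.preimage_mono h)) hce
      rw [res_smul, res_res, res_res] at h2
      rw [hue]
      exact h2
    · exact ⟨⊥, bot_le, 1, isUnit_one, fun h => absurd h hη,
        eq_of_locally _ _ fun p hp => absurd hp (Set.notMem_empty _)⟩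
  choose O' hO' u hu hηO' huval using hloc
  let T : X → G → Set X := fun y η => ((Wf y ⊓ O η : X.Opens) : Set X) \ O' y η
  have hT : ∀ y η, (T y η).Finite ∧ IsClosed (T y η) := fun y η => by
    have hfin : (closure (T y η)).Finite := by
      refine finite_of_isClosed_of_closed_points isClosed_closure fun z hz => hclp z fun hzG => ?_
      obtain ⟨w, hwO, hw, hwO'⟩ := mem_closure_iff.1 hz _ (O ⟨z, hzG⟩).2 (hηO ⟨z, hzG⟩)
      obtain rfl : η = ⟨z, hzG⟩ := hdisj _ _ w hw.2 hwO
      obtain ⟨η'', hη'', hs⟩ := exists_mem_genericPoints w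
      obtain rfl : η'' = z := congrArg Subtype.val (huniq _ ⟨η'', hη''⟩ w hwO hs)
      obtain ⟨w', hw', -, hw''⟩ := mem_closure_iff.1 hz _ (O' y ⟨η'', hzG⟩).2 (hηO' y _ (hs.mem_open (Wf y).2 hw.1))
      exact hw'' hw'
    refine ⟨hfin.subset subset_closure, ?_⟩
    rw [← Set.biUnion_of_singleton (T y η)]
    refine (hfin.subset subset_closure).isClosed_biUnion fun z hz => hclp z fun hzG => ?_
    obtain rfl : η = ⟨z, hzG⟩ := (huniq η ⟨z, hzG⟩ z hz.1.2 specializes_rfl).symm
    exact hz.2 (hηO' y _ hz.1.1)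
  -- the charts
  have hV : ∀ y : ↥(U : Set X)ᶜ, ∃ V : X.Opens, y.1 ∈ V ∧ V ≤ Wf y.1 ∧
      (∀ z ∈ V, z ∉ U → z = y.1) ∧ ∀ η, V ⊓ O η ≤ O' y.1 η := fun y => by
    have hcl : IsClosed (((U : Set X)ᶜ \ {y.1}) ∪ ⋃ η, T y.1 η) := IsClosed.union (by
        rw [← Set.biUnion_of_singleton ((U : Set X)ᶜ \ {y.1})]
        exact (hfinU.subset Set.sdiff_subset).isClosed_biUnion fun z hz => hUc z hz.1)
      (isClosed_iUnion_of_finite fun η => (hT y.1 η).2)
    let V : X.Opens := Wf y.1 ⊓ ⟨_, hcl.isOpen_compl⟩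
    refine ⟨V, ⟨hWf _, ?_⟩, inf_le_left, fun z hz hzU => ?_, fun η z hz => ?_⟩
    · rintro (h | h)
      · exact h.2 rfl
      · obtain ⟨η, h⟩ := Set.mem_iUnion.1 h
        exact y.2 (Opens.mem_iSup.2 ⟨η, h.1.2⟩)
    · by_contra hne
      exact hz.2 (Or.inl ⟨hzU, hne⟩)
    · by_contra hne
      exact hz.1.2 (Or.inr (Set.mem_iUnion.2 ⟨η, ⟨hz.1.1, hz.2⟩, hne⟩))
  choose V hyV hVW hViso hVO using hV
  have he : ∀ y : ↥(U : Set X)ᶜ, ∃ e : Γ(X, V y ⊓ U), IsUnit e ∧
      res L (f.preimage_mono (inf_le_left.trans (hVW y) : V y ⊓ U ≤ Wf y.1)) (ef y.1) =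
        f.app (V y ⊓ U) e • res L (f.preimage_mono inf_le_right) S := fun y => by
    have hle : ∀ η, V y ⊓ O η ≤ V y ⊓ U := fun η => inf_le_inf_left _ (le_iSup O η)
    have hcov : ∀ p ∈ V y ⊓ U, ∃ η, p ∈ V y ⊓ O η := fun p hp =>
      (Opens.mem_iSup.1 hp.2).imp fun η hη => ⟨hp.1, hη⟩
    obtain ⟨e, hee, -⟩ := existsUnique_glue (M := Coh.structureModule X) (V := V y ⊓ U)
      (fun η : G => V y ⊓ O η) hle hcov (fun η => resR (hVO y η) (u y.1 η)) fun η η' => by
        by_cases h : η = η'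
        · subst h; rfl
        · exact eq_of_locally _ _ fun p hp => absurd (hdisj η η' p hp.1.2 hp.2.2) h
    refine ⟨e, RingedSpace.isUnit_of_isUnit_germ X.toRingedSpace _ _ fun p hp => ?_,
      eq_of_locally _ _ fun p hp => ?_⟩
    · obtain ⟨η, hη⟩ := hcov p hp
      have := ((hu y.1 η).map (resR (hVO y η))).map (X.presheaf.germ _ p hη).hom
      rw [← show resR (hle η) e = _ from hee η] at this
      exact (X.presheaf.germ_res_apply (homOfLE (hle η)) p hη e) ▸ this
    · obtain ⟨η, hη⟩ := hcov (f p) hp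
      refine ⟨f ⁻¹ᵁ (V y ⊓ O η), f.preimage_mono (hle η), hη, ?_⟩
      rw [res_smul, res_res, res_res, show resR (f.preimage_mono (hle η)) (f.app (V y ⊓ U) e) =
        f.app (V y ⊓ O η) (resR (hle η) e) from
          (ConcreteCategory.congr_hom (f.naturality (homOfLE (hle η)).op) e).symm,
        show resR (hle η) e = _ from hee η,
        show f.app (V y ⊓ O η) (resR (hVO y η) (u y.1 η)) = resR (f.preimage_mono (hVO y η)) (f.app _ (u y.1 η)) from
          ConcreteCategory.congr_hom (f.naturality (homOfLE (hVO y η)).op) _]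
      have h := congrArg (res L (f.preimage_mono (hVO y η))) (huval y.1 η)
      rw [res_smul, res_res, res_res, ← hS η, res_res] at h
      exact h
  choose e heu hee using he
  let ι := Option ↥(U : Set X)ᶜ
  let Vc : ι → X.Opens := fun a => a.elim U V
  let t : ∀ a : ι, Γ(L, f ⁻¹ᵁ Vc a) := fun a => match a with
    | none => S
    | some y => res L (f.preimage_mono (hVW y)) (ef y.1)
  have ht : ∀ a, IsFrame (t a) := fun a => by
    cases a with
    | none => exact hSf
    | some y => exact (hef y.1).res _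
  have hE : ∀ a : ι, ∃ ε : (Γ(X, Vc a ⊓ U))ˣ,
      res L (f.preimage_mono (inf_le_left : Vc a ⊓ U ≤ Vc a)) (t a) =
        f.app (Vc a ⊓ U) (ε : Γ(X, Vc a ⊓ U)) • res L (f.preimage_mono inf_le_right) S := fun a => by
    cases a with
    | none => exact ⟨1, by rw [Units.val_one, map_one, one_smul]; rfl⟩
    | some y => exact ⟨(heu y).unit, (res_res _ _ _).trans (hee y)⟩
  choose ε hε using hE
  have hcov : ∀ x, ∃ a, x ∈ Vc a := fun x => by
    by_cases hx : x ∈ U
    · exact ⟨none, hx⟩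
    · exact ⟨some ⟨x, hx⟩, hyV _⟩
  have hsep : ∀ a b, a ≠ b → Vc a ⊓ Vc b ≤ U := fun a b hab => by
    match a, b with
    | none, _ => exact inf_le_left
    | some _, none => exact inf_le_right
    | some y, some y' =>
      exact fun z hz => by_contra fun hzU => hab
        (congrArg some (Subtype.ext ((hViso y z hz.1 hzU).symm.trans (hViso y' z hz.2 hzU))))
  let r : ∀ (a : ι) (W : X.Opens), W ≤ Vc a → W ≤ U → (Γ(X, W))ˣ := fun a W h h' =>
    Units.map (resR (le_inf h h')).toMonoidHom (ε a)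
  have hr : ∀ (a : ι) (W W' : X.Opens) (hW : W' ≤ W) (h : W ≤ Vc a) (h' : W ≤ U),
      Units.map (resR hW).toMonoidHom (r a W h h') = r a W' (hW.trans h) (hW.trans h') :=
    fun a W W' hW h h' => Units.ext (resR_resR _ _ _)
  let g : ∀ a b : ι, (Γ(X, Vc a ⊓ Vc b))ˣ := fun a b =>
    if h : a = b then 1 else r a _ inf_le_left (hsep a b h) * (r b _ inf_le_right (hsep a b h))⁻¹
  have hg : ∀ (a b : ι) (W : X.Opens) (ha : W ≤ Vc a) (hb : W ≤ Vc b) (hU : W ≤ U),
      Units.map (resR (le_inf ha hb)).toMonoidHom (g a b) = r a W ha hU * (r b W hb hU)⁻¹ :=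
    fun a b W ha hb hU => by
      simp only [g]
      split_ifs with h
      · subst h; rw [map_one, mul_inv_cancel]
      · rw [map_mul, map_inv, hr a _ W (le_inf ha hb) inf_le_left (hsep a b h),
          hr b _ W (le_inf ha hb) inf_le_right (hsep a b h)]
  let τ : CocycleMod.Cocycle Vc :=
    { g := g
      trans := fun i j k W hi hj hk => by
        by_cases h : i = j ∧ j = k
        · obtain ⟨rfl, rfl⟩ := h
          simp [g]
        have hWU : W ≤ U := by
          by_cases hij : i = j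
          · exact (le_inf hj hk).trans (hsep j k fun e => h ⟨hij, e⟩)
          · exact (le_inf hi hj).trans (hsep i j hij)
        refine congrArg Units.val (a₁ := Units.map (resR (le_inf hi hk)).toMonoidHom (g i k))
          (a₂ := Units.map (resR (le_inf hj hk)).toMonoidHom (g j k) *
            Units.map (resR (le_inf hi hj)).toMonoidHom (g i j)) ?_
        rw [hg i k W hi hk hWU, hg j k W hj hk hWU, hg i j W hi hj hWU, mul_comm (r j W hj hWU * _)]
        group }
  have hF := CocycleMod.isFrame_frame τ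
  have hεW : ∀ (a : ι) (W : X.Opens) (ha : W ≤ Vc a) (hU : W ≤ U),
      res L (f.preimage_mono ha) (t a) =
        f.app W (r a W ha hU : Γ(X, W)) • res L (f.preimage_mono hU) S := fun a W ha hU => by
    have h := congrArg (res L (f.preimage_mono (le_inf ha hU))) (hε a)
    rw [res_smul, res_res, res_res] at h
    rw [show f.app W (r a W ha hU : Γ(X, W)) = resR (f.preimage_mono (le_inf ha hU))
      (f.app (Vc a ⊓ U) (ε a : Γ(X, Vc a ⊓ U))) from
        ConcreteCategory.congr_hom (f.naturality (homOfLE (le_inf ha hU)).op) _]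
    exact h
  let P := (Scheme.Modules.pushforward f).obj L
  have hcomp : ∀ (a b : ι) (W : X.Opens) (ha : W ≤ Vc a) (hb : W ≤ Vc b) (c : Γ(X, W)),
      res (CocycleMod.mod τ) hb (CocycleMod.frame τ b) = c • res _ ha (CocycleMod.frame τ a) →
      res P hb (t b : Γ(P, Vc b)) = c • res P ha (t a : Γ(P, Vc a)) := fun a b W ha hb c hc => by
    have h := congrArg (res (CocycleMod.mod τ) (le_inf hb ha)) (CocycleMod.res_frame τ b a)
    rw [res_smul, res_res, res_res] at h
    have hca : c = resR (le_inf hb ha) (g b a : Γ(X, Vc b ⊓ Vc a)) :=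
      (hF a).coord_unique ha (hc.symm.trans h)
    show res L (f.preimage_mono hb) (t b) = f.app W c • res L (f.preimage_mono ha) (t a)
    by_cases hab : b = a
    · subst hab
      rw [hca, show g b b = 1 by simp [g], Units.val_one, map_one, map_one, one_smul]
    · have hWU : W ≤ U := (le_inf hb ha).trans (hsep b a hab)
      rw [hεW b W hb hWU, hεW a W ha hWU, ← mul_smul, ← map_mul, hca,
        show resR (le_inf hb ha) (g b a : Γ(X, Vc b ⊓ Vc a)) =
          ((r b W hb hWU * (r a W ha hWU)⁻¹ : (Γ(X, W))ˣ) : Γ(X, W)) from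
            congrArg Units.val (hg b a W hb ha hWU),
        ← Units.val_mul, inv_mul_cancel_right]
  let φ : CocycleMod.mod τ ⟶ P := ofFrames hcov hF hcomp
  refine ⟨CocycleMod.mod τ, CocycleMod.isInvertible τ (top_unique fun x _ => Opens.mem_iSup.2 (hcov x)),
    nonempty_pullback_iso f φ Vc (fun z => hcov (f z)) _ hF fun a => ?_⟩
  rw [show φ.app (Vc a) (CocycleMod.frame τ a) = t a from ofFrames_app hcov hF hcomp a]
  exact ht a

end Groth.Agent.VarBase.DimOne
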