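import Mathlib.RingTheory.IntegralClosure.IsIntegral.Basic
import Mathlib.RingTheory.Localization.Away.Basic
import Mathlib.RingTheory.Localization.Submodule
import Mathlib.RingTheory.Ideal.MinimalPrime.Noetherian
import Mathlib.RingTheory.Nilpotent.Lemmas
import Mathlib.RingTheory.Ideal.Quotient.Operations

/-!
# Powers of elements of a localization which are congruent to elements of an ideal at all primes
-/

namespace Groth.Agent.VarBase.DimOne

open Polynomial

universe u v

/-- If `y ∈ B[1/f]` is congruent to an element of `m` modulo every prime, and every element of `m`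
has a power divisible by `f ∈ m`, then a positive power of `y` is in the image of `m`. -/
theorem exists_pow_eq_algebraMap {B : Type u} [CommRing B] [IsNoetherianRing B] (m : Ideal B) {f : B}
    (hf : f ∈ m) (hrad : ∀ c ∈ m, ∃ j : ℕ, f ∣ c ^ j) {R : Type v} [CommRing R] [Algebra B R]
    [IsLocalization.Away f R] (y : R)
    (hy : ∀ Q : Ideal R, Q.IsPrime → ∃ b ∈ m, y - algebraMap B R b ∈ Q) :
    ∃ N : ℕ, 0 < N ∧ ∃ g ∈ m, algebraMap B R g = y ^ N := by
  classical
  have : IsNoetherianRing R := IsLocalization.isNoetherianRing (Submonoid.powers f) R inferInstance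
  have hfin := minimalPrimes.finite_of_isNoetherianRing R
  have hmin : ∀ Q ∈ hfin.toFinset, ∃ b ∈ m, y - algebraMap B R b ∈ Q := fun Q hQ =>
    hy Q (hfin.mem_toFinset.1 hQ).1.1
  choose! b hbm hbQ using hmin
  let T := hfin.toFinset
  obtain ⟨M, hM⟩ : IsNilpotent (∏ Q ∈ T, (y - algebraMap B R (b Q))) :=
    nilpotent_iff_mem_prime.2 fun J hJ => by
      obtain ⟨Q, hQ, hQJ⟩ := Ideal.exists_minimalPrimes_le (bot_le : (⊥ : Ideal R) ≤ J)
      exact Ideal.mem_of_dvd _ (Finset.dvd_prod_of_mem _ (hfin.mem_toFinset.2 hQ))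
        (hQJ (hbQ Q (hfin.mem_toFinset.2 hQ)))
  -- `y` is integral
  have hint : IsIntegral B y := by
    refine ⟨(∏ Q ∈ T, (X - C (b Q))) ^ M,
      (monic_prod_of_monic _ _ fun Q _ => monic_X_sub_C _).pow M, ?_⟩
    rw [eval₂_pow, eval₂_finsetProd]
    simpa only [eval₂_sub, eval₂_X, eval₂_C] using hM
  let A := Algebra.adjoin B ({y} : Set R)
  obtain ⟨s, hs⟩ : (Subalgebra.toSubmodule A).FG := hint.fg_adjoin_singleton
  have hks : ∀ z ∈ s, ∃ k : ℕ, ∃ c, algebraMap B R c = algebraMap B R f ^ k * z := fun z _ => by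
    obtain ⟨⟨c, _, k, rfl⟩, hc⟩ := IsLocalization.surj (Submonoid.powers f) z
    exact ⟨k, c, hc.symm.trans (by rw [map_pow, mul_comm])⟩
  choose! k c hc using hks
  let K := s.sup k
  have hK : ∀ z ∈ A, ∃ d, algebraMap B R d = algebraMap B R f ^ K * z := fun z hz => by
    have hz' : z ∈ Submodule.span B (s : Set R) := hs ▸ (hz : z ∈ Subalgebra.toSubmodule A)
    clear hz
    induction hz' using Submodule.span_induction with
    | mem z hz =>
      obtain ⟨e, he⟩ := Nat.exists_eq_add_of_le (Finset.le_sup (f := k) hz)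
      refine ⟨f ^ e * c z, ?_⟩
      rw [map_mul, map_pow, hc z hz, ← mul_assoc, ← pow_add, add_comm e, show k z + e = K from he.symm]
    | zero => exact ⟨0, by rw [map_zero, mul_zero]⟩
    | add a b _ _ ha hb =>
      obtain ⟨d, hd⟩ := ha
      obtain ⟨d', hd'⟩ := hb
      exact ⟨d + d', by rw [map_add, hd, hd', mul_add]⟩
    | smul r z _ hz =>
      obtain ⟨d, hd⟩ := hz
      exact ⟨r * d, by rw [map_mul, hd, Algebra.smul_def]; ring⟩
  let y' : A := ⟨y, Algebra.subset_adjoin rfl⟩
  let J : Ideal A := Ideal.span (algebraMap B A '' (b '' (T : Set (Ideal R))))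
  have hJ : J ≤ (Ideal.span {algebraMap B A f}).radical := Ideal.span_le.2 <| by
    rintro _ ⟨_, ⟨Q, hQ, rfl⟩, rfl⟩
    obtain ⟨j, d, hd⟩ := hrad (b Q) (hbm Q hQ)
    exact ⟨j, Ideal.mem_span_singleton.2 ⟨algebraMap B A d, by rw [← map_pow, hd, map_mul]⟩⟩
  have hz : (∏ Q ∈ T, (y' - algebraMap B A (b Q))) ^ M = 0 := Subtype.val_injective <| by
    simpa using hM
  have hyJ : y' ^ (T.card * M) ∈ J := by
    rw [← Ideal.Quotient.eq_zero_iff_mem, map_pow, pow_mul]
    have h := congrArg (Ideal.Quotient.mk J) hz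
    rw [map_pow, map_prod, map_zero,
      Finset.prod_congr rfl fun Q hQ => show Ideal.Quotient.mk J (y' - algebraMap B A (b Q)) = Ideal.Quotient.mk J y' by
        rw [map_sub, sub_eq_self, Ideal.Quotient.eq_zero_iff_mem]
        exact Ideal.subset_span ⟨_, ⟨Q, hQ, rfl⟩, rfl⟩,
      Finset.prod_const] at h
    exact h
  obtain ⟨n, hn⟩ := Ideal.mem_radical_iff.1 (hJ hyJ)
  obtain ⟨w, hw⟩ := Ideal.mem_span_singleton.1 hn
  -- a positive power is a multiple of `f`
  have hw' : y' ^ (T.card * M * n + 1) = algebraMap B A f * (w * y') := by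
    rw [pow_succ, pow_mul, hw, mul_assoc]
  obtain ⟨d, hd⟩ := hK _ (((w * y') ^ (K + 1) : A)).2
  refine ⟨(T.card * M * n + 1) * (K + 1), by positivity, f * d, Ideal.mul_mem_right _ _ hf, ?_⟩
  have h2 : y ^ ((T.card * M * n + 1) * (K + 1)) =
      algebraMap B R f ^ (K + 1) * ((w * y') ^ (K + 1) : A) := by
    rw [pow_mul]
    have := congrArg (fun z : A => (z : R) ^ (K + 1)) hw'
    simp only [SubmonoidClass.coe_pow, Subalgebra.coe_mul, Subalgebra.coe_algebraMap, mul_pow] at this ⊢
    exact this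
  rw [h2, map_mul, hd]
  ring

end Groth.Agent.VarBase.DimOne
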