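import Groth.Agent.VarBase.DimOne.Shrink
import Groth.Agent.VarBase.DimOne.Algebra
import Groth.Agent.KrullAki.Avoid
import Mathlib.AlgebraicGeometry.ResidueField
import Mathlib.AlgebraicGeometry.Morphisms.SchemeTheoreticallyDominant
import Mathlib.AlgebraicGeometry.Morphisms.Separated
import Mathlib.RingTheory.KrullDimension.LocalRing

/-!
# Functions on an affine open with poles at all branches of the missing points
-/

universe u

open CategoryTheory AlgebraicGeometry TopologicalSpace

set_option backward.isDefEq.respectTransparency false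
set_option backward.isDefEq.respectTransparency.types false

namespace Groth.Agent.VarBase.DimOne

open Groth.Agent.AModX Groth.Agent.KrullAki

variable {X : Scheme.{u}} {x η : X}

theorem fromSpecStalk_injective (x : X) : Function.Injective (X.fromSpecStalk x) :=
  (X.fromSpecStalk x).isEmbedding.injective

theorem eq_genPrime {h : η ⤳ x} {q : PrimeSpectrum (X.presheaf.stalk x)}
    (hq : X.fromSpecStalk x q = η) : q = genPrime h :=
  fromSpecStalk_injective x (hq.trans (fromSpecStalk_genPrime h).symm)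

theorem genPrime_asIdeal (h : η ⤳ x) : (genPrime h).asIdeal =
    (IsLocalRing.maximalIdeal (X.presheaf.stalk η)).comap (X.presheaf.stalkSpecializes h).hom := rfl

/-- The map from the local ring at `x` to the residue field of a generization. -/
noncomputable def toResidue (h : η ⤳ x) : X.presheaf.stalk x →+* X.residueField η :=
  (X.residue η).hom.comp (X.presheaf.stalkSpecializes h).hom

theorem residue_eq_zero_iff (t : X.presheaf.stalk η) :
    (X.residue η).hom t = 0 ↔ t ∈ IsLocalRing.maximalIdeal (X.presheaf.stalk η) :=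
  IsLocalRing.residue_eq_zero_iff t

theorem toResidue_eq_zero_iff (h : η ⤳ x) (b : X.presheaf.stalk x) :
    toResidue h b = 0 ↔ b ∈ (genPrime h).asIdeal :=
  residue_eq_zero_iff _

theorem toResidue_germ (h : η ⤳ x) (V : X.Opens) (hxV : x ∈ V) (a : Γ(X, V)) :
    toResidue h (X.presheaf.germ V x hxV a) = (X.residue η).hom (X.presheaf.germ V η (h.mem_open V.2 hxV) a) :=
  congrArg (X.residue η).hom (TopCat.Presheaf.germ_stalkSpecializes_apply _ _ _ _)

theorem isFractionRing_range (h : η ⤳ x) : IsFractionRing (toResidue h).range (X.residueField η) := by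
  obtain ⟨_, ⟨V, hV, rfl⟩, hxV, -⟩ :=
    X.isBasis_affineOpens.exists_subset_of_mem_open (Set.mem_univ x) isOpen_univ
  have hηV : η ∈ V := h.mem_open V.2 hxV
  refine IsFractionRing.of_field _ _ fun z => ?_
  obtain ⟨t, rfl⟩ := X.residue_surjective η z
  let _ := X.presheaf.algebra_section_stalk (⟨η, hηV⟩ : V)
  have := hV.isLocalization_stalk ⟨η, hηV⟩
  obtain ⟨⟨a, s⟩, hs⟩ := IsLocalization.surj (hV.primeIdealOf ⟨η, hηV⟩).asIdeal.primeCompl t
  have hu : IsUnit ((X.residue η).hom (X.presheaf.germ V η hηV s.1)) :=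
    (IsLocalization.map_units (X.presheaf.stalk η) s).map (X.residue η).hom
  refine ⟨⟨_, ⟨X.presheaf.germ V x hxV a, rfl⟩⟩, ⟨_, ⟨X.presheaf.germ V x hxV s.1, rfl⟩⟩, ?_⟩
  have h2 : (X.residue η).hom t * (X.residue η).hom (X.presheaf.germ V η hηV s.1) =
      (X.residue η).hom (X.presheaf.germ V η hηV a) := by
    rw [← map_mul]
    exact congrArg (X.residue η).hom hs
  show (X.residue η).hom t = toResidue h _ / toResidue h _
  rw [toResidue_germ, toResidue_germ, eq_div_iff hu.ne_zero]
  exact h2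

theorem isLocalRing_range (h : η ⤳ x) : IsLocalRing (toResidue h).range :=
  IsLocalRing.of_surjective' (toResidue h).rangeRestrict (toResidue h).rangeRestrict_surjective

theorem ringKrullDim_range (h : η ⤳ x) (hne : η ≠ x) (hd : ringKrullDim (X.presheaf.stalk x) ≤ 1) :
    ringKrullDim (toResidue h).range = 1 := by
  have hsurj := (toResidue h).rangeRestrict_surjective
  refine le_antisymm ((ringKrullDim_le_of_surjective _ hsurj).trans hd) ?_
  suffices hn : ¬ ringKrullDim (toResidue h).range ≤ 0 from Order.succ_le_of_lt (lt_of_not_ge hn)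
  intro hle
  have : Ring.KrullDimLE 0 (toResidue h).range := Ring.krullDimLE_iff.2 hle
  have hf : IsField (toResidue h).range := Ring.KrullDimLE.isField_of_isDomain
  let := hf.toField
  obtain ⟨b, hbm, hb⟩ := SetLike.exists_of_lt
    (lt_of_le_of_ne (IsLocalRing.le_maximalIdeal (genPrime h).isPrime.ne_top) (genPrime_ne h hne))
  have hu : IsUnit ((toResidue h).rangeRestrict b) := by
    refine Ne.isUnit fun h0 => hb ((toResidue_eq_zero_iff h b).1 ?_)
    exact congrArg Subtype.val h0
  have := IsLocalRing.of_surjective' (toResidue h).rangeRestrict hsurj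
  exact (IsLocalRing.mem_maximalIdeal b).1 hbm
    ((IsLocalHom.of_surjective _ hsurj).map_nonunit b hu)

/-- The functions on an affine open and the local ring at a point outside generate the residue field
of a common generization. -/
theorem sup_range_eq_top [X.IsSeparated] {U : X.Opens} (hU : IsAffineOpen U) (hxU : x ∉ U) (h : η ⤳ x)
    (hη : η ∈ U) (hd : ringKrullDim (X.presheaf.stalk x) ≤ 1) :
    ((X.residue η).hom.comp (X.presheaf.germ U η hη).hom).range ⊔ (toResidue h).range = ⊤ := by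
  have := krullDimLE_one hd
  set ρ := (X.residue η).hom.comp (X.presheaf.germ U η hη).hom
  set R := ρ.range ⊔ (toResidue h).range
  let α : Γ(X, U) →+* R := ρ.codRestrict R fun a => (le_sup_left : ρ.range ≤ R) ⟨a, rfl⟩
  let β : X.presheaf.stalk x →+* R :=
    (toResidue h).codRestrict R fun a => (le_sup_right : (toResidue h).range ≤ R) ⟨a, rfl⟩
  let f1 : Spec (CommRingCat.of R) ⟶ X := Spec.map (CommRingCat.ofHom α) ≫ hU.fromSpec
  let f2 : Spec (CommRingCat.of R) ⟶ X := Spec.map (CommRingCat.ofHom β) ≫ X.fromSpecStalk x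
  let j : Spec (X.residueField η) ⟶ Spec (CommRingCat.of R) := Spec.map (CommRingCat.ofHom R.subtype)
  have hj : IsDominant j := ⟨(PrimeSpectrum.denseRange_comap_iff_ker_le_nilRadical _).2 (fun r hr => by rw [show r = 0 from Subtype.ext hr]; exact zero_mem _)⟩
  have hf : f1 = f2 := by
    refine ext_of_isDominant j ?_
    have e1 : CommRingCat.ofHom α ≫ CommRingCat.ofHom R.subtype = X.presheaf.germ U η hη ≫ X.residue η := rfl
    have e2 : CommRingCat.ofHom β ≫ CommRingCat.ofHom R.subtype = X.presheaf.stalkSpecializes h ≫ X.residue η := rfl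
    simp only [f1, f2, j, ← Spec.map_comp_assoc, e1, e2]
    rw [Spec.map_comp_assoc, Spec.map_comp_assoc, Scheme.SpecMap_stalkSpecializes_fromSpecStalk,
      ← hU.fromSpecStalk_eq_fromSpecStalk hη]
    rfl
  -- nonzero elements of the local ring become units
  have hunit : ∀ b, toResidue h b ≠ 0 → IsUnit (β b) := by
    intro b hb
    by_contra hu
    obtain ⟨P, hP, hbP⟩ := exists_max_ideal_of_mem_nonunits hu
    let p : PrimeSpectrum R := ⟨P, hP.isPrime⟩
    let q : PrimeSpectrum (X.presheaf.stalk x) := ⟨P.comap β, Ideal.IsPrime.comap β⟩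
    have hq : X.fromSpecStalk x q = f1 p := (congrArg (fun g => g p) hf).symm
    have hqU : X.fromSpecStalk x q ∈ U := hq ▸ fromSpec_mem hU _
    have hle : (genPrime h).asIdeal ≤ q.asIdeal := fun c hc => by
      show β c ∈ P
      rw [show β c = 0 from Subtype.ext ((toResidue_eq_zero_iff h c).2 hc)]
      exact P.zero_mem
    rcases eq_or_eq_of_le (genPrime h).isPrime q.isPrime hle with he | he
    · exact hb ((toResidue_eq_zero_iff h b).2 (he.le hbP))
    · refine hxU ?_
      rw [show q = IsLocalRing.closedPoint (X.presheaf.stalk x) from PrimeSpectrum.ext he] at hqU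
      exact (Scheme.fromSpecStalk_closedPoint (x := x)) ▸ hqU
  refine eq_top_iff.2 fun z _ => ?_
  have := isFractionRing_range h
  obtain ⟨⟨_, c, rfl⟩, ⟨_, w, rfl⟩, hw, rfl⟩ := IsFractionRing.div_surjective (A := (toResidue h).range) z
  have hw0 : toResidue h w ≠ 0 := fun h0 => nonZeroDivisors.ne_zero hw (Subtype.ext h0)
  obtain ⟨v, hv⟩ := (hunit w hw0).exists_right_inv
  show toResidue h c / toResidue h w ∈ R
  have hv' : toResidue h w * (v : X.residueField η) = 1 := congrArg Subtype.val hv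
  rw [div_eq_mul_inv, inv_eq_of_mul_eq_one_right hv']
  exact R.mul_mem ((le_sup_right : (toResidue h).range ≤ R) ⟨c, rfl⟩) v.2

/-- **A function on an affine open with poles at all branches through the missing points.** -/
theorem exists_pole [X.IsSeparated] {U : X.Opens} (hU : IsAffineOpen U) (hfin : ((U : Set X)ᶜ).Finite)
    (hloc : ∀ x : X, x ∉ U → IsNoetherianRing (X.presheaf.stalk x) ∧ ringKrullDim (X.presheaf.stalk x) ≤ 1)
    (hgen : ∀ x : X, x ∉ U → ∀ η, η ⤳ x → η ≠ x → η ∈ U) :
    ∃ a : Γ(X, U), ∀ (x η : X) (_ : x ∉ U) (h : η ⤳ x) (hη : η ∈ U),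
      ∃ b ∈ IsLocalRing.maximalIdeal (X.presheaf.stalk x),
        toResidue h b * (X.residue η).hom (X.presheaf.germ U η hη a) = 1 := by
  classical
  have hfin' : Finite {x : X // x ∉ U} := hfin.to_subtype
  have hG : (⋃ x : {x : X // x ∉ U}, {η : X | η ⤳ x.1 ∧ η ≠ x.1}).Finite :=
    Set.finite_iUnion fun x => (finite_gens (hloc x.1 x.2).1 (hloc x.1 x.2).2).subset fun η h => h.1
  set G := ⋃ x : {x : X // x ∉ U}, {η : X | η ⤳ x.1 ∧ η ≠ x.1}
  have hGU : ∀ η ∈ G, η ∈ U := fun η hη => by
    obtain ⟨x, h, hne⟩ := Set.mem_iUnion.1 hη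
    exact hgen x.1 x.2 η h hne
  -- separating the branches
  have he : ∀ η ∈ G, ∃ e : Γ(X, U), η ∈ X.basicOpen e ∧ ∀ η' ∈ G, η' ≠ η → η' ∉ X.basicOpen e := by
    intro η hη
    have hO : IsClosed (⋃ η' ∈ G \ {η}, closure ({η'} : Set X)) :=
      (hG.sdiff).isClosed_biUnion fun _ _ => isClosed_closure
    have hηO : η ∉ ⋃ η' ∈ G \ {η}, closure ({η'} : Set X) := fun hmem => by
      obtain ⟨η', ⟨-, hne⟩, hc⟩ := Set.mem_iUnion₂.1 hmem
      obtain ⟨x, h, hηx⟩ := Set.mem_iUnion.1 hη
      exact hne (eq_of_specializes (hloc x.1 x.2).2 (specializes_iff_mem_closure.2 hc) h hηx)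
    obtain ⟨e, hle, hee⟩ := hU.exists_basicOpen_le (V := ⟨_, hO.isOpen_compl⟩) ⟨η, hηO⟩ (hGU η hη)
    exact ⟨e, hee, fun η' hη' hne hmem =>
      hle hmem (Set.mem_biUnion ⟨hη', hne⟩ (subset_closure rfl))⟩
  choose! e hee he' using he
  -- poles on each branch
  have key : ∀ η ∈ G, ∃ (c : Γ(X, U)) (N : ℕ), ∀ n, N ≤ n → ∀ (x : X) (_ : x ∉ U) (h : η ⤳ x) (hη : η ∈ U),
      ∃ b ∈ IsLocalRing.maximalIdeal (X.presheaf.stalk x),
        toResidue h b * (X.residue η).hom (X.presheaf.germ U η hη (c ^ n * e η)) = 1 := by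
    intro η hη
    have hηU := hGU η hη
    let ρ := (X.residue η).hom.comp (X.presheaf.germ U η hηU).hom
    let I := {x : {x : X // x ∉ U} // η ⤳ x.1}
    have : ∀ i : I, IsNoetherianRing (toResidue i.2).range := fun i =>
      have := (hloc i.1.1 i.1.2).1
      isNoetherianRing_of_surjective _ _ (toResidue i.2).rangeRestrict
        (toResidue i.2).rangeRestrict_surjective
    have : ∀ i : I, IsFractionRing (toResidue i.2).range (X.residueField η) :=
      fun i => isFractionRing_range i.2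
    have hne : ∀ i : I, η ≠ i.1.1 := fun i h => i.1.2 (h ▸ hηU)
    have hdim := fun i : I => ringKrullDim_range i.2 (hne i) (hloc i.1.1 i.1.2).2
    obtain ⟨z, ⟨c, hc⟩, hz0, hz⟩ := exists_inv_mem_jacobson ρ.range
      (fun i : I => (toResidue i.2).range) hdim
      (fun i => by
        have := isLocalRing_range i.2
        have : Subsingleton (MaximalSpectrum (toResidue i.2).range) := ⟨fun a b => MaximalSpectrum.ext
          ((IsLocalRing.eq_maximalIdeal a.isMaximal).trans (IsLocalRing.eq_maximalIdeal b.isMaximal).symm)⟩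
        infer_instance)
      fun i => sup_range_eq_top hU i.1.2 i.2 hηU (hloc i.1.1 i.1.2).2
    have he0 : ρ (e η) ≠ 0 := fun h0 =>
      (residue_eq_zero_iff _).1 h0 ((Scheme.mem_basicOpen X _ η hηU).1 (hee η hη))
    have hN : ∀ i : I, ∃ N : ℕ, ∀ n, N ≤ n → z⁻¹ ^ n * (ρ (e η))⁻¹ ∈ (toResidue i.2).range := fun i => by
      have := krullDimLE_one_of_dim_eq_one (hdim i)
      obtain ⟨hzB, hzJ⟩ := hz i
      exact exists_pow_mul_mem hzJ _
    choose N hN using hN
    obtain ⟨M, hM⟩ := (Set.finite_range N).bddAbove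
    refine ⟨c, M + 1, fun n hn x hx h hη' => ?_⟩
    obtain ⟨n, rfl⟩ : ∃ k, n = k + 1 := ⟨n - 1, by omega⟩
    let i : I := ⟨⟨x, hx⟩, h⟩
    obtain ⟨hzB, hzJ⟩ := hz i
    obtain ⟨b₁, hb₁⟩ := hzB
    obtain ⟨b₂, hb₂⟩ := hN i n ((hM ⟨i, rfl⟩).trans (by omega))
    have hloc' := isLocalRing_range i.2
    rw [IsLocalRing.jacobson_eq_maximalIdeal _ bot_ne_top] at hzJ
    have hb₁m : b₁ ∈ IsLocalRing.maximalIdeal (X.presheaf.stalk x) := by
      rw [IsLocalRing.mem_maximalIdeal]
      intro hu
      refine (IsLocalRing.mem_maximalIdeal _).1 hzJ ?_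
      have := hu.map (toResidue h).rangeRestrict
      convert this using 1
      exact Subtype.ext hb₁.symm
    refine ⟨b₁ * b₂, Ideal.mul_mem_right _ _ hb₁m, ?_⟩
    rw [map_mul, hb₁, hb₂]
    show z⁻¹ * (z⁻¹ ^ n * (ρ (e η))⁻¹) * ρ (c ^ (n + 1) * e η) = 1
    rw [map_mul, map_pow, hc, inv_pow]
    field_simp
    rw [pow_succ']
  choose! c N hc using key
  obtain ⟨M, hM⟩ := (hG.image N).bddAbove
  refine ⟨∑ η ∈ hG.toFinset, c η ^ M * e η, fun x η hx h hη => ?_⟩
  have hηG : η ∈ G := Set.mem_iUnion.2 ⟨⟨x, hx⟩, h, fun he : η = x => hx (he ▸ hη)⟩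
  obtain ⟨b, hb, hb'⟩ := hc η hηG M (hM ⟨η, hηG, rfl⟩) x hx h hη
  refine ⟨b, hb, ?_⟩
  rw [map_sum, map_sum, Finset.sum_eq_single η (fun η' hη' hne => ?_)
    (fun hn => absurd (hG.mem_toFinset.2 hηG) hn)]
  · exact hb'
  · rw [map_mul, map_mul]
    refine mul_eq_zero_of_right _ ((residue_eq_zero_iff _).2 ?_)
    exact fun hu => he' η' (hG.mem_toFinset.1 hη') η hηG hne.symm ((Scheme.mem_basicOpen X _ η hη).2 hu)

end Groth.Agent.VarBase.DimOne
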